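import Mathlib.LinearAlgebra.FiniteDimensional.Lemmas
import Mathlib.LinearAlgebra.Dimension.Finite
import Mathlib.Algebra.CharP.Basic
import Mathlib.Tactic.LinearCombination
import Mathlib.Tactic.Module

/-!
# A nilpotent operator with a weight vector and a weight functional

On a space of dimension at most `p + 1` let `U` be nilpotent with `U ^ p = 0`, let `N` scale `U`
by `h`, let `v` be killed by `U` with weight `h⁻¹` and `φ` vanish on the image of `U` with weight
`h`. Then either some `y` killed by `U ^ (p - 2)` has `φ y ≠ 0`, or `v` is outside the image of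
`U ^ (p - 2)`.
-/

set_option autoImplicit false
set_option linter.unusedSectionVars false
set_option linter.style.haveILetI false

namespace CfsgLib.PrimeDegTI

open Module

universe v w

variable {k : Type v} [Field k] {V : Type w} [AddCommGroup V] [Module k V] [FiniteDimensional k V]

/-- The kernel of `U` inside the image of `U ^ j`. -/
def kerImage (U : Module.End k V) (j : ℕ) : Submodule k V :=
  LinearMap.ker U ⊓ LinearMap.range (U ^ j)

/-- Dimension drops along the images of powers. -/
theorem finrank_range_pow_succ (U : Module.End k V) (j : ℕ) :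
    finrank k (LinearMap.range (U ^ (j + 1))) + finrank k (kerImage U j) =
      finrank k (LinearMap.range (U ^ j)) := by
  have h := LinearMap.finrank_range_add_finrank_ker (U.domRestrict (LinearMap.range (U ^ j)))
  have h1 : LinearMap.range (U.domRestrict (LinearMap.range (U ^ j))) =
      LinearMap.range (U ^ (j + 1)) := by
    ext x
    simp only [LinearMap.mem_range, LinearMap.domRestrict_apply, Subtype.exists]
    constructor
    · rintro ⟨y, ⟨z, rfl⟩, rfl⟩
      exact ⟨z, by rw [pow_succ']; rfl⟩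
    · rintro ⟨z, rfl⟩
      exact ⟨(U ^ j) z, ⟨z, rfl⟩, by rw [pow_succ']; rfl⟩
  have h2 : finrank k (LinearMap.ker (U.domRestrict (LinearMap.range (U ^ j)))) =
      finrank k (kerImage U j) := by
    refine (LinearEquiv.finrank_eq (Submodule.equivMapOfInjective _
      (LinearMap.range (U ^ j)).injective_subtype
      (LinearMap.ker (U.domRestrict (LinearMap.range (U ^ j)))))).trans ?_
    rw [show (LinearMap.ker (U.domRestrict (LinearMap.range (U ^ j)))).map
      (LinearMap.range (U ^ j)).subtype = kerImage U j from ?_]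
    ext x
    simp [kerImage, LinearMap.domRestrict_apply, and_comm]
  rw [h1, h2] at h
  exact h

theorem range_pow_le (U : Module.End k V) {i j : ℕ} (h : i ≤ j) :
    LinearMap.range (U ^ j) ≤ LinearMap.range (U ^ i) := by
  rintro x ⟨y, rfl⟩
  obtain ⟨l, rfl⟩ := Nat.exists_eq_add_of_le h
  exact ⟨(U ^ l) y, by rw [pow_add]; rfl⟩

/-- The rank inequality. -/
theorem kerImage_mul_le (U : Module.End k V) (m : ℕ) :
    ∀ j, j ≤ m + 1 → finrank k (LinearMap.range (U ^ j)) + j * finrank k (kerImage U m) ≤ finrank k V := by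
  intro j
  induction j with
  | zero => intro _; simpa using Submodule.finrank_le _
  | succ j ih =>
    intro hj
    have h1 := ih (by omega)
    have h2 := finrank_range_pow_succ U j
    have h3 : finrank k (kerImage U m) ≤ finrank k (kerImage U j) :=
      Submodule.finrank_mono (inf_le_inf le_rfl (range_pow_le U (by omega)))
    rw [Nat.succ_mul]
    omega

/-- The kernel inside the image of `U ^ (p - 2)` is at most a line. -/
theorem finrank_kerImage_le_one {p : ℕ} (hp : 7 ≤ p) (U : Module.End k V)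
    (hd : finrank k V ≤ p + 1) : finrank k (kerImage U (p - 2)) ≤ 1 := by
  have h := kerImage_mul_le U (p - 2) (p - 1) (by omega)
  by_contra hc
  have : (p - 1) * 2 ≤ (p - 1) * finrank k (kerImage U (p - 2)) := Nat.mul_le_mul_left _ (by omega)
  omega

variable {U N S T : Module.End k V} {h : k}

theorem pow_mul_S (hS : S = h • 1 + U * T) {j : ℕ} (hj : U ^ (j + 1) = 0) :
    ∀ i, U ^ j * S ^ i = h ^ i • U ^ j := by
  intro i
  induction i with
  | zero => simp
  | succ i ih =>
    rw [pow_succ, ← mul_assoc, ih, smul_mul_assoc, hS, mul_add, ← mul_assoc, ← pow_succ, hj, zero_mul,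
      add_zero, mul_smul_comm, mul_one, smul_smul, ← pow_succ]

theorem conj_pow (hNU : N * U = U * S * N) (hUS : Commute U S) (i : ℕ) :
    N * U ^ i = U ^ i * S ^ i * N := by
  induction i with
  | zero => simp
  | succ i ih =>
    calc N * U ^ (i + 1) = N * U ^ i * U := by rw [pow_succ, mul_assoc]
      _ = U ^ i * S ^ i * (N * U) := by rw [ih, mul_assoc]
      _ = U ^ i * (S ^ i * U) * S * N := by rw [hNU]; simp only [mul_assoc]
      _ = U ^ i * (U * S ^ i) * S * N := by rw [(hUS.pow_right i).eq]
      _ = _ := by rw [pow_succ, pow_succ]; simp only [mul_assoc]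

/-- **The dichotomy.** -/
theorem not_both {p : ℕ} (hp7 : 7 ≤ p) (hd : finrank k V ≤ p + 1) (hU : U ^ p = 0)
    (hS : S = h • 1 + U * T) (hUS : Commute U S) (hNU : N * U = U * S * N)
    (hh : h ^ (p - 1) = 1) (h2 : h ^ 2 ≠ 1) {v : V} (hv0 : v ≠ 0) (hUv : U v = 0)
    (hNv : N v = h⁻¹ • v) (φ : V →ₗ[k] k) (hφ0 : φ ≠ 0) (hφU : ∀ w, φ (U w) = 0)
    (hφN : ∀ w, φ (N w) = h * φ w) :
    (∃ y, (U ^ (p - 2)) y = 0 ∧ φ y ≠ 0) ∨ v ∉ LinearMap.range (U ^ (p - 2)) := by
  by_contra hcon
  push Not at hcon
  obtain ⟨hφker, hvR⟩ := hcon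
  have hh0 : h ≠ 0 := fun e => by
    rw [e, zero_pow (by omega)] at hh; exact zero_ne_one hh
  have hline : ∀ x, U x = 0 → x ∈ LinearMap.range (U ^ (p - 2)) → ∃ c : k, c • v = x := by
    intro x hx hxR
    have hvmem : v ∈ kerImage U (p - 2) := ⟨hUv, hvR⟩
    have hspan : Submodule.span k {v} = kerImage U (p - 2) := by
      refine Submodule.eq_of_le_of_finrank_le ((Submodule.span_singleton_le_iff_mem _ _).2 hvmem) ?_
      rw [finrank_span_singleton hv0]
      exact finrank_kerImage_le_one hp7 U hd
    exact Submodule.mem_span_singleton.1 (hspan ▸ (⟨hx, hxR⟩ : x ∈ kerImage U (p - 2)))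
  by_cases h1 : U ^ (p - 1) = 0
  · obtain ⟨y, hy⟩ := hvR
    have hU2 : ∀ w, U ((U ^ (p - 2)) w) = 0 := fun w => by
      rw [← Module.End.mul_apply, ← pow_succ', show p - 2 + 1 = p - 1 by omega, h1]; rfl
    -- `φ` factors through `U ^ (p - 2)`
    have hφy : φ y ≠ 0 := by
      intro hy0
      apply hφ0
      ext w
      obtain ⟨c, hc⟩ := hline _ (hU2 w) ⟨w, rfl⟩
      have : φ (w - c • y) = 0 := hφker _ (by rw [map_sub, map_smul, hy, hc, sub_self])
      rwa [map_sub, map_smul, hy0, smul_zero, sub_zero] at this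
    have h3 : (U ^ (p - 2)) (N y) = v := by
      have e := LinearMap.congr_fun (conj_pow hNU hUS (p - 2)) y
      rw [pow_mul_S hS (by rw [show p - 2 + 1 = p - 1 by omega, h1]), Module.End.mul_apply, hy, hNv,
        Module.End.mul_apply, LinearMap.smul_apply] at e
      have hx : (U ^ (p - 2)) (N y) = (h ^ (p - 2))⁻¹ • h⁻¹ • v := by
        rw [e, inv_smul_smul₀ (pow_ne_zero _ hh0)]
      rw [hx, smul_smul, ← mul_inv, ← pow_succ, show p - 2 + 1 = p - 1 by omega, hh, inv_one, one_smul]
    have h4 := hφker (N y - y) (by rw [map_sub, h3, hy, sub_self])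
    rw [map_sub, hφN, ← sub_one_mul, mul_eq_zero] at h4
    refine h4.elim (fun h5 => h2 ?_) hφy
    rw [sub_eq_zero.1 h5, one_pow]
  · obtain ⟨z', hz'⟩ : ∃ z, (U ^ (p - 1)) z ≠ 0 := by
      by_contra hall
      push Not at hall
      exact h1 (LinearMap.ext hall)
    have htop : ∀ w, U ((U ^ (p - 1)) w) = 0 := fun w => by
      rw [← Module.End.mul_apply, ← pow_succ', show p - 1 + 1 = p by omega, hU]; rfl
    have htopR : ∀ w, (U ^ (p - 1)) w ∈ LinearMap.range (U ^ (p - 2)) := fun w =>
      range_pow_le U (show p - 2 ≤ p - 1 by omega) ⟨w, rfl⟩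
    obtain ⟨c₀, hc₀⟩ := hline _ (htop z') (htopR z')
    obtain ⟨z, hz⟩ : ∃ z, (U ^ (p - 1)) z = v := by
      refine ⟨c₀⁻¹ • z', ?_⟩
      have hc0 : c₀ ≠ 0 := fun e => hz' (by rw [← hc₀, e, zero_smul])
      rw [map_smul, ← hc₀, inv_smul_smul₀ hc0]
    have hkill : ∀ w, (U ^ (p - 1)) w = 0 → φ w = 0 := by
      intro w hw
      obtain ⟨c, hc⟩ := hline ((U ^ (p - 2)) w) (by
        rw [← Module.End.mul_apply, ← pow_succ', show p - 2 + 1 = p - 1 by omega, hw]) ⟨w, rfl⟩
      have := hφker (w - c • U z) (by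
        rw [map_sub, map_smul, ← Module.End.mul_apply (U ^ (p - 2)), ← pow_succ,
          show p - 2 + 1 = p - 1 by omega, hz, hc, sub_self])
      rwa [map_sub, map_smul, hφU, smul_zero, sub_zero] at this
    have hφz : φ z ≠ 0 := by
      intro hz0
      apply hφ0
      ext w
      obtain ⟨c, hc⟩ := hline _ (htop w) (htopR w)
      have : φ (w - c • z) = 0 := hkill _ (by rw [map_sub, map_smul, hz, hc, sub_self])
      rwa [map_sub, map_smul, hz0, smul_zero, sub_zero] at this
    have h3 : (U ^ (p - 1)) (N z) = h⁻¹ • v := by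
      have e := LinearMap.congr_fun (conj_pow hNU hUS (p - 1)) z
      rw [pow_mul_S hS (by rw [show p - 1 + 1 = p by omega, hU]), Module.End.mul_apply, hz, hNv, hh,
        one_smul, Module.End.mul_apply] at e
      exact e.symm
    have h4 := hkill (N z - h⁻¹ • z) (by rw [map_sub, map_smul, h3, hz, sub_self])
    rw [map_sub, map_smul, hφN, smul_eq_mul, ← sub_mul, mul_eq_zero] at h4
    refine h4.elim (fun h5 => h2 ?_) hφz
    rw [sq]
    conv_lhs => arg 1; rw [sub_eq_zero.1 h5]
    exact inv_mul_cancel₀ hh0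

end CfsgLib.PrimeDegTI
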