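import Cfsg.Agent.PrimeDegTI.Setup
import Cfsg.Agent.S0806
import Cfsg.Agent.Classical.PSLTwoSub

/-!
# The exceptional transitive actions of `PSL₂(q)` of prime degree
-/

set_option autoImplicit false
set_option linter.unusedSectionVars false
set_option linter.style.haveILetI false

namespace CfsgLib.PrimeDegTI

open Subgroup MulAction
open scoped Classical

universe u

variable {p : ℕ} [hp : Fact p.Prime] {G : Type u} [Group G] [Fintype G] {α : Type u}
  [MulAction G α] [FaithfulSMul G α] [MulAction.IsPretransitive G α]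

/-- A group `PSL₂(q)`, `q` odd, of prime degree `p ≥ 5`: `q = p ∈ {5, 7, 11}`. -/
theorem exceptional (h : Nat.card α = p) (hp5 : 5 ≤ p) {F : Type} [Field F] [Fintype F]
    (hF2 : ringChar F ≠ 2) (e : G ≃* Matrix.ProjectiveSpecialLinearGroup (Fin 2) F) :
    (p = 5 ∨ p = 7 ∨ p = 11) ∧ ∃ (F : Type) (_ : Field F) (_ : Fintype F), Fintype.card F = p ∧
      Nonempty (G ≃* Matrix.ProjectiveSpecialLinearGroup (Fin 2) F) := by
  haveI := finite_of_card (α := α) h
  obtain ⟨q, hq⟩ : ∃ q, q = Fintype.card F := ⟨_, rfl⟩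
  have hodd : q % 2 = 1 := hq ▸ FiniteField.odd_card_of_char_ne_two hF2
  have hq1 : 1 < q := hq ▸ Fintype.one_lt_card
  have hqo : Odd (Nat.card F) := by
    rw [Nat.card_eq_fintype_card, ← hq, Nat.odd_iff]; exact hodd
  have hcard := CfsgLib.Linear.PSLTwo.two_mul_card_psl F hqo
  rw [Nat.card_eq_fintype_card (α := F), ← hq] at hcard
  have hG : Nat.card (Matrix.ProjectiveSpecialLinearGroup (Fin 2) F) = Nat.card G :=
    (Nat.card_congr e.toEquiv).symm
  have hcard' : 2 * Nat.card G = q * (q ^ 2 - 1) := hG ▸ hcard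
  have hdvd : p ∣ Nat.card G := dvd_card (α := α) h
  have hfac : Nat.card G ∣ p.factorial := by
    rw [← h, ← Nat.card_perm]
    exact Subgroup.card_dvd_of_injective (MulAction.toPermHom G α) MulAction.toPerm_injective
  by_cases hsmall : q ∈ ({2, 3, 5, 7, 9, 11} : Finset ℕ)
  · simp only [Finset.mem_insert, Finset.mem_singleton] at hsmall
    have hpq : p = q ∧ (q = 5 ∨ q = 7 ∨ q = 11) := by
      rcases hsmall with rfl | rfl | rfl | rfl | rfl | rfl <;> norm_num at hodd <;> norm_num1 at hcard'
      · rw [show Nat.card G = 12 by omega] at hdvd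
        have : p ∣ 2 ^ 2 * 3 := hdvd
        rcases hp.out.dvd_mul.1 this with h' | h'
        · have := Nat.le_of_dvd two_pos (hp.out.dvd_of_dvd_pow h'); omega
        · have := Nat.le_of_dvd three_pos h'; omega
      · rw [show Nat.card G = 60 by omega] at hdvd
        have : p ∣ 2 ^ 2 * 3 * 5 := hdvd
        rcases hp.out.dvd_mul.1 this with h' | h'
        · rcases hp.out.dvd_mul.1 h' with h' | h'
          · have := Nat.le_of_dvd two_pos (hp.out.dvd_of_dvd_pow h'); omega
          · have := Nat.le_of_dvd three_pos h'; omega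
        · have := Nat.le_of_dvd (by norm_num) h'; omega
      · rw [show Nat.card G = 168 by omega] at hdvd
        have : p ∣ 2 ^ 3 * 3 * 7 := hdvd
        rcases hp.out.dvd_mul.1 this with h' | h'
        · rcases hp.out.dvd_mul.1 h' with h' | h'
          · have := Nat.le_of_dvd two_pos (hp.out.dvd_of_dvd_pow h'); omega
          · have := Nat.le_of_dvd three_pos h'; omega
        · exact ⟨(Nat.prime_dvd_prime_iff_eq hp.out (by norm_num)).1 h', Or.inr (Or.inl rfl)⟩
      · rw [show Nat.card G = 360 by omega] at hdvd hfac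
        have : p ∣ 2 ^ 3 * 3 ^ 2 * 5 := hdvd
        rcases hp.out.dvd_mul.1 this with h' | h'
        · rcases hp.out.dvd_mul.1 h' with h' | h'
          · have := Nat.le_of_dvd two_pos (hp.out.dvd_of_dvd_pow h'); omega
          · have := Nat.le_of_dvd three_pos (hp.out.dvd_of_dvd_pow h'); omega
        · obtain rfl : p = 5 := (Nat.prime_dvd_prime_iff_eq hp.out (by norm_num)).1 h'
          norm_num [Nat.factorial] at hfac
      · rw [show Nat.card G = 660 by omega] at hdvd hfac
        have : p ∣ 2 ^ 2 * 3 * 5 * 11 := hdvd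
        rcases hp.out.dvd_mul.1 this with h' | h'
        · rcases hp.out.dvd_mul.1 h' with h' | h'
          · rcases hp.out.dvd_mul.1 h' with h' | h'
            · have := Nat.le_of_dvd two_pos (hp.out.dvd_of_dvd_pow h'); omega
            · have := Nat.le_of_dvd three_pos h'; omega
          · obtain rfl : p = 5 := (Nat.prime_dvd_prime_iff_eq hp.out (by norm_num)).1 h'
            norm_num [Nat.factorial] at hfac
        · exact ⟨(Nat.prime_dvd_prime_iff_eq hp.out (by norm_num)).1 h', Or.inr (Or.inr rfl)⟩
    exact ⟨hpq.1 ▸ hpq.2, F, inferInstance, inferInstance, by rw [← hq, hpq.1], ⟨e⟩⟩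
  exfalso
  obtain ⟨a⟩ : Nonempty α := (Nat.card_pos_iff.mp (h ▸ hp.out.pos)).1
  have hidx : (stabilizer G a).index = p := by rw [index_stabilizer_of_transitive G a, h]
  have hge := (Cfsg.Agent.S0806.result (F := F) hq.symm hsmall).1 ((stabilizer G a).map e.toMonoidHom)
    fun htop => by
      have h1 : ((stabilizer G a).map e.toMonoidHom).index = p :=
        (Subgroup.index_map_equiv (H := stabilizer G a) e).trans hidx
      rw [htop, index_top] at h1
      exact hp.out.one_lt.ne h1
  rw [show ((stabilizer G a).map e.toMonoidHom).index = p from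
    (Subgroup.index_map_equiv (H := stabilizer G a) e).trans hidx] at hge
  have h2 : p ∣ q * (q ^ 2 - 1) := hcard' ▸ dvd_mul_of_dvd_right hdvd 2
  rcases hp.out.dvd_mul.1 h2 with h3 | h3
  · have := Nat.le_of_dvd (by omega) h3; omega
  · rw [show q ^ 2 - 1 = (q + 1) * (q - 1) by rw [← Nat.sq_sub_sq q 1, one_pow]] at h3
    rcases hp.out.dvd_mul.1 h3 with h4 | h4
    · have := Nat.le_of_dvd (by omega) h4
      have : p = q + 1 := by omega
      have := hp.out.odd_of_ne_two (by omega)
      rw [Nat.odd_iff] at this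
      omega
    · have := Nat.le_of_dvd (by omega) h4; omega

end CfsgLib.PrimeDegTI
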