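import Cfsg.Agent.PrimeDegTI.TwoPart
import Cfsg.Agent.PrimeDegTI.Exceptional
import Cfsg.Agent.BSWId.Main

/-!
# Even `|E|`: the Brauer–Suzuki–Wall theorem applies
-/

set_option autoImplicit false
set_option linter.unusedSectionVars false
set_option linter.style.haveILetI false

namespace CfsgLib.PrimeDegTI

open Subgroup MulAction
open scoped Classical

universe u

variable {p : ℕ} [hp : Fact p.Prime] {G : Type u} [Group G] [Fintype G] {α : Type u}
  [MulAction G α] [FaithfulSMul G α] [MulAction.IsPretransitive G α]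
variable {P : Sylow p G} {E : Subgroup G}

theorem Hyp.even_case (H : Hyp α P E) (he : 2 ∣ Nat.card E) :
    (p = 5 ∨ p = 7 ∨ p = 11) ∧ ∃ (F : Type) (_ : Field F) (_ : Fintype F), Fintype.card F = p ∧
      Nonempty (G ≃* Matrix.ProjectiveSpecialLinearGroup (Fin 2) F) := by
  obtain ⟨i, hi, hio, hu, hconj, s, hsN, hsE, hso, hinv⟩ := H.even_data he
  have hC := H.centralizer_invol hi hio hu
  have hle : E ≤ centralizer ({i} : Set G) := fun x hx =>
    mem_centralizer_singleton_iff.2 (H.E_comm hx hi)
  have hcases := fun {x : G} (hx : x ∈ normalizer (E : Set G)) => H.cases hsN hsE hx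
  have hH : E ⊔ zpowers s = centralizer ({i} : Set G) := by
    rw [hC]
    refine le_antisymm (sup_le le_normalizer (zpowers_le.2 hsN)) fun x hx => ?_
    rcases hcases hx with h | h
    · exact mem_sup_left h
    · have := mul_mem (mem_sup_left (T := zpowers s) h) (mem_sup_right (S := E) (mem_zpowers s))
      rwa [inv_mul_cancel_right] at this
  have hCK : E ⊓ centralizer ({s} : Set G) = zpowers i := by
    refine le_antisymm (fun x hx => ?_) (zpowers_le.2 ⟨hi, ?_⟩)
    · have h1 := hinv x hx.1
      rw [show s * x * s⁻¹ = x by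
        rw [mul_inv_eq_iff_eq_mul]; exact (mem_centralizer_singleton_iff.1 hx.2).symm] at h1
      rcases hu x hx.1 (mul_eq_one_iff_eq_inv.2 h1) with rfl | rfl
      · exact one_mem _
      · exact mem_zpowers _
    · rw [← hC] at hsN
      exact mem_centralizer_singleton_iff.2 (mem_centralizer_singleton_iff.1 hsN).symm
  rcases CfsgLib.BSWId.psl_or_card_twelve i hio E ⟨⟨fun a b => Subtype.ext (H.E_comm a.2 b.2)⟩⟩ hle hi
    s hso (hC ▸ hsN) hsE hH hCK hinv (hC ▸ H.hTI) hconj with h12 | ⟨F, _, _, hF2, ⟨e⟩⟩
  · exfalso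
    have hd : p ∣ 2 ^ 2 * 3 := by
      have h := dvd_card (G := G) (α := α) H.hcard
      rwa [h12] at h
    have := H.five_le
    rcases hp.out.dvd_mul.1 hd with h | h
    · have := Nat.le_of_dvd two_pos (hp.out.dvd_of_dvd_pow h); omega
    · have := Nat.le_of_dvd three_pos h; omega
  · exact exceptional H.hcard H.five_le hF2 e

end CfsgLib.PrimeDegTI
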