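import Cfsg.Prelude
import Cfsg.Agent.SmallDegree.CommutingConjugates
import Cfsg.Agent.Perm.PrimeAddOneFour
import Mathlib.Algebra.Polynomial.Expand
import Mathlib.GroupTheory.Sylow

/-!
# A map from the heart of the permutation module into a module with a suitable functional

`g` of order `p` is the translation of a chart of `p` points, `φ` is fixed by `g` and scaled by the
multiplier on the normalizer of `⟨g⟩`, and `y` is killed by `(ρ g - 1) ^ (p - 2)` with `φ y ≠ 0`.
The relative trace of an evident map from the sum-zero functions commutes with the group, kills the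
constants and is nonzero.
-/

set_option autoImplicit false
set_option linter.unusedSectionVars false
set_option linter.style.haveILetI false

namespace CfsgLib.PrimeDegTI

open Finset
open scoped Classical

universe u v w

section Poly

variable {p : ℕ} [hp : Fact p.Prime] (k : Type v) [Field k] [CharP k p]
  {R : Type w} [Ring R] [Algebra k R]
include k

theorem sub_one_pow_p (a : R) : (a - 1) ^ p = a ^ p - 1 := by
  have h : ((Polynomial.X : Polynomial k) - 1) ^ p = Polynomial.X ^ p - 1 := by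
    rw [sub_pow_char, one_pow]
  simpa using congrArg (Polynomial.aeval a) h

theorem geom_sum_eq (a : R) : ∑ i ∈ range p, a ^ i = (a - 1) ^ (p - 1) := by
  have h : ∑ i ∈ range p, (Polynomial.X : Polynomial k) ^ i = (Polynomial.X - 1) ^ (p - 1) := by
    refine mul_left_cancel₀ (Polynomial.X_sub_C_ne_zero (1 : k)) ?_
    rw [Polynomial.C_1, mul_geom_sum, ← pow_succ', Nat.sub_add_cancel hp.out.one_le, sub_pow_char,
      one_pow]
  simpa using congrArg (Polynomial.aeval a) h

theorem double_geom_sum_eq (a : R) :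
    ∑ i ∈ range p, ∑ l ∈ range i, a ^ l = (a - 1) ^ (p - 2) := by
  have h : ∑ i ∈ range p, ∑ l ∈ range i, (Polynomial.X : Polynomial k) ^ l =
      (Polynomial.X - 1) ^ (p - 2) := by
    refine mul_left_cancel₀ (Polynomial.X_sub_C_ne_zero (1 : k)) ?_
    rw [Polynomial.C_1, mul_sum, ← pow_succ', show p - 2 + 1 = p - 1 by have := hp.out.two_le; omega,
      ← geom_sum_eq k (Polynomial.X : Polynomial k)]
    simp only [mul_geom_sum, sum_sub_distrib, sum_const, card_range, nsmul_eq_mul, mul_one,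
      CharP.cast_eq_zero (Polynomial k) p, sub_zero]
  simpa using congrArg (Polynomial.aeval a) h

end Poly

variable {p : ℕ} [hp : Fact p.Prime] {k : Type v} [Field k] [CharP k p]
  {G : Type u} [Group G] [Finite G] {α : Type u} [Fintype α] [MulAction G α] [FaithfulSMul G α]
  [MulAction.IsPretransitive G α]
  {V : Type w} [AddCommGroup V] [Module k V] {ρ : G →* Module.End k V}

/-- The image of a residue in `k`. -/
abbrev cst (k : Type v) [Field k] {p : ℕ} [CharP k p] (r : ZMod p) : k := ZMod.castHom (dvd_refl p) k r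

/-- The multiplier action on a functional. -/
def Scales (ρ : G →* Module.End k V) (g : G) (e : ZMod p ≃ α) (φ : V →ₗ[k] k) : Prop :=
  ∀ n ∈ Subgroup.normalizer (Subgroup.zpowers g : Set G), ∀ b r : ZMod p,
    (∀ i, n • e i = e (b + r * i)) → ∀ x, φ (ρ n x) = cst k r * φ x

/-- **The map.** -/
theorem exists_heart_map {g : G} (hg : orderOf g = p) (hsq : ¬ p ^ 2 ∣ Nat.card G) (e : ZMod p ≃ α)
    (he : ∀ (n : ℕ) (j : ZMod p), g ^ n • e j = e (j + n)) (φ : V →ₗ[k] k)
    (hφ : Scales ρ g e φ) {y : V} (hy : ((ρ g - 1) ^ (p - 2)) y = 0) (hφy : φ y ≠ 0) :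
    ∃ T : (α → k) →ₗ[k] V,
      (∀ (a : G) (w : α → k), ∑ x, w x = 0 → T (Cfsg.permRep k G α a w) = ρ a (T w)) ∧
      T (fun _ => 1) = 0 ∧ ∃ τ : α → k, ∑ x, τ x = 0 ∧ φ (T τ) ≠ 0 := by
  have hp2 := hp.out.two_le
  obtain ⟨U, hU⟩ : ∃ U, U = ρ g - 1 := ⟨_, rfl⟩
  rw [← hU] at hy
  have hy1 : (U ^ (p - 1)) y = 0 := by
    rw [show p - 1 = 1 + (p - 2) by omega, pow_add, Module.End.mul_apply, hy, map_zero]
  have hφg : ∀ x, φ (ρ g x) = φ x := fun x => by
    have h1 := hφ g (Subgroup.le_normalizer (Subgroup.mem_zpowers g)) 1 1 (fun i => by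
      have := he 1 i
      rw [pow_one, Nat.cast_one] at this
      rw [this, one_mul, add_comm]) x
    rwa [cst, map_one, one_mul] at h1
  have hφpow : ∀ (l : ℕ) (x : V), φ ((ρ g ^ l) x) = φ x := by
    intro l
    induction l with
    | zero => simp
    | succ l ih => intro x; rw [pow_succ', Module.End.mul_apply, hφg, ih]
  obtain ⟨Y, hY⟩ : ∃ Y : ℕ → V, ∀ m, Y m = ∑ l ∈ range m, (ρ g ^ l) y := ⟨_, fun _ => rfl⟩
  have hYp : Y p = 0 := by
    rw [hY, ← LinearMap.sum_apply, geom_sum_eq k, ← hU, hy1]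
  have hYsucc : ∀ m, Y (m + 1) = y + ρ g (Y m) := fun m => by
    rw [hY, hY, sum_range_succ', map_sum, pow_zero, Module.End.one_apply, add_comm]
    congr 1
    exact sum_congr rfl fun l _ => by rw [pow_succ', Module.End.mul_apply]
  have hφY : ∀ m : ℕ, φ (Y m) = (m : k) * φ y := fun m => by
    rw [hY, map_sum, sum_congr rfl fun l _ => hφpow l y, sum_const, card_range, nsmul_eq_mul]
  have hYsum : ∑ i : ZMod p, Y i.val = 0 := by
    have h1 : ∑ i : ZMod p, Y i.val = ∑ m ∈ range p, Y m := by
      refine (Finset.sum_nbij' (fun z : ZMod p => z.val) (fun i : ℕ => (i : ZMod p))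
        (fun z _ => Finset.mem_range.2 (ZMod.val_lt z)) (fun _ _ => Finset.mem_univ _)
        (fun z _ => ?_) (fun i hi => ZMod.val_cast_of_lt (Finset.mem_range.1 hi)) fun _ _ => rfl)
      exact ZMod.natCast_zmod_val z
    rw [h1, sum_congr rfl fun m _ => hY m]
    simp only [← LinearMap.sum_apply]
    rw [double_geom_sum_eq k, ← hU, hy]
  obtain ⟨f, hf⟩ : ∃ f : (α → k) →ₗ[k] V, ∀ w, f w = ∑ i : ZMod p, w (e i) • Y i.val :=
    ⟨∑ i : ZMod p, (LinearMap.proj (e i)).smulRight (Y i.val), fun w => by simp⟩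
  have hπ : ∀ (a : G) (w : α → k) (x : α), Cfsg.permRep k G α a w x = w (a⁻¹ • x) := fun _ _ _ => rfl
  have hsum : ∀ (a : G) (w : α → k), ∑ x, w x = 0 → ∑ x, Cfsg.permRep k G α a w x = 0 := by
    intro a w hw
    rw [← hw]
    exact Fintype.sum_equiv (MulAction.toPerm a⁻¹) _ _ fun x => rfl
  have hfg : ∀ w : α → k, ∑ x, w x = 0 → f (Cfsg.permRep k G α g w) = ρ g (f w) := by
    intro w hw
    have hshift : ∀ j : ZMod p, Y (j + 1).val = y + ρ g (Y j.val) := by
      intro j
      rw [← hYsucc, ZMod.val_add, ZMod.val_one]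
      rcases Nat.lt_or_ge (j.val + 1) p with h1 | h1
      · rw [Nat.mod_eq_of_lt h1]
      · have h2 : j.val + 1 = p := le_antisymm (ZMod.val_lt j) h1
        rw [h2, Nat.mod_self, hYp, hY 0]
        simp
    rw [hf, hf, map_sum]
    refine (Fintype.sum_equiv (Equiv.addRight (1 : ZMod p))
      (fun j => w (e j) • (y + ρ g (Y j.val))) _ fun j => ?_).symm.trans ?_
    · rw [Equiv.coe_addRight, hπ, ← hshift]
      have h3 := he 1 j
      rw [pow_one, Nat.cast_one] at h3
      rw [← h3, inv_smul_smul]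
    · simp only [smul_add, sum_add_distrib, map_smul]
      rw [← sum_smul, Equiv.sum_comp e w, hw, zero_smul, zero_add]
  have hfpow : ∀ (i : ℕ) (w : α → k), ∑ x, w x = 0 →
      f (Cfsg.permRep k G α (g ^ i) w) = ρ (g ^ i) (f w) := by
    intro i
    induction i with
    | zero => intro w _; simp
    | succ i ih =>
      intro w hw
      rw [pow_succ, map_mul, map_mul, Module.End.mul_apply, Module.End.mul_apply,
        ih _ (hsum g w hw), hfg w hw]
  -- the relative trace
  obtain ⟨P, hP⟩ : ∃ P, Subgroup.zpowers g = P := ⟨_, rfl⟩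
  haveI : Fintype (G ⧸ P) := Fintype.ofFinite _
  obtain ⟨F, hF⟩ : ∃ F : G ⧸ P → ((α → k) →ₗ[k] V),
      ∀ q, F q = (ρ q.out).comp (f.comp (Cfsg.permRep k G α q.out⁻¹)) := ⟨_, fun _ => rfl⟩
  have hFmk : ∀ (a : G) (w : α → k), ∑ x, w x = 0 →
      F (a : G ⧸ P) w = ρ a (f (Cfsg.permRep k G α a⁻¹ w)) := by
    intro a w hw
    obtain ⟨z, hz⟩ := QuotientGroup.mk_out_eq_mul P a
    have hzP : (z : G) ∈ Subgroup.zpowers g := hP ▸ z.2
    rw [← mem_powers_iff_mem_zpowers, Submonoid.mem_powers_iff] at hzP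
    obtain ⟨i, hi⟩ := hzP
    have h1 := hfpow i (Cfsg.permRep k G α ((g ^ i)⁻¹) (Cfsg.permRep k G α a⁻¹ w))
      (hsum _ _ (hsum _ w hw))
    rw [← Module.End.mul_apply (Cfsg.permRep k G α (g ^ i)), ← map_mul, mul_inv_cancel, map_one,
      Module.End.one_apply] at h1
    rw [hF, LinearMap.comp_apply, LinearMap.comp_apply, hz, ← hi, mul_inv_rev, map_mul, map_mul,
      Module.End.mul_apply, Module.End.mul_apply, ← h1]
  obtain ⟨T, hT⟩ : ∃ T, T = ∑ q, F q := ⟨_, rfl⟩
  refine ⟨T, ?_, ?_, ?_⟩
  · intro a w hw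
    rw [hT, LinearMap.sum_apply, LinearMap.sum_apply, map_sum]
    refine (Fintype.sum_equiv (MulAction.toPerm a) _ _ fun q => ?_).symm
    conv_rhs => rw [MulAction.toPerm_apply, ← QuotientGroup.out_eq' q, MulAction.Quotient.smul_coe,
      smul_eq_mul, hFmk _ _ (hsum a w hw), mul_inv_rev, map_mul, map_mul, Module.End.mul_apply,
      Module.End.mul_apply, ← Module.End.mul_apply (Cfsg.permRep k G α a⁻¹), ← map_mul, inv_mul_cancel,
      map_one, Module.End.one_apply]
    rw [hF]
    rfl
  · rw [hT, LinearMap.sum_apply]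
    refine sum_eq_zero fun q _ => ?_
    rw [hF, LinearMap.comp_apply, LinearMap.comp_apply,
      show Cfsg.permRep k G α q.out⁻¹ (fun _ => (1 : k)) = fun _ => (1 : k) from rfl, hf]
    simp [hYsum]
  · obtain ⟨τ, hτ⟩ : ∃ τ : α → k, τ = Pi.single (e 1) 1 - Pi.single (e 0) 1 := ⟨_, rfl⟩
    have hτ0 : ∑ x, τ x = 0 := by simp [hτ, sum_sub_distrib]
    refine ⟨τ, hτ0, ?_⟩
    have hfix : ∀ q : G ⧸ P, g • q = q →
        q.out ∈ Subgroup.normalizer (Subgroup.zpowers g : Set G) := by
      intro q hq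
      have h1 : ((q.out : G) : G ⧸ P) = ((g * q.out : G) : G ⧸ P) := by
        conv_rhs => rw [← smul_eq_mul, ← MulAction.Quotient.smul_coe, QuotientGroup.out_eq', hq]
        exact QuotientGroup.out_eq' q
      rw [QuotientGroup.eq, ← mul_assoc] at h1
      replace h1 : q.out⁻¹ * g * q.out ∈ Subgroup.zpowers g := hP ▸ h1
      have h2 : Subgroup.zpowers (q.out⁻¹ * g * q.out) = Subgroup.zpowers g := by
        refine Subgroup.eq_of_le_of_card_ge (Subgroup.zpowers_le.2 h1) (le_of_eq ?_)
        rw [Nat.card_zpowers, Nat.card_zpowers]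
        exact (orderOf_injective (MulAut.conj q.out⁻¹).toMonoidHom (MulEquiv.injective _) g).symm.trans
          (congrArg orderOf (by simp))
      refine inv_mem_iff.1 (Subgroup.mem_normalizer_iff.2 fun z => ?_)
      rw [inv_inv]
      constructor
      · intro hz
        obtain ⟨i, rfl⟩ := Subgroup.mem_zpowers_iff.1 hz
        rw [show q.out⁻¹ * g ^ i * q.out = (q.out⁻¹ * g * q.out) ^ i by
          rw [← MulAut.conj_inv_apply, ← MulAut.conj_inv_apply, map_zpow]]
        exact zpow_mem h1 i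
      · intro hz
        rw [← h2] at hz
        obtain ⟨i, hi⟩ := Subgroup.mem_zpowers_iff.1 hz
        rw [show q.out⁻¹ * g * q.out = (MulAut.conj q.out)⁻¹ g from (MulAut.conj_inv_apply _ _).symm,
          ← map_zpow, show q.out⁻¹ * z * q.out = (MulAut.conj q.out)⁻¹ z from
            (MulAut.conj_inv_apply _ _).symm] at hi
        exact ⟨i, (MulEquiv.injective _) hi⟩
    have hval : ∀ q : G ⧸ P, g • q = q → φ (F q τ) = φ y := by
      intro q hq
      obtain ⟨n, hn⟩ : ∃ n, n = q.out := ⟨_, rfl⟩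
      have hnN : n ∈ Subgroup.normalizer (Subgroup.zpowers g : Set G) := hn ▸ hfix q hq
      obtain ⟨b, r, hr, hnr⟩ := CfsgLib.PrimeDegree.affine_of_conj_mem he n
        ((Subgroup.mem_normalizer_iff.1 hnN g).1 (Subgroup.mem_zpowers g))
      have hr' : cst k r ≠ 0 := (map_ne_zero _).2 hr
      rw [hF, LinearMap.comp_apply, LinearMap.comp_apply, ← hn, hφ n hnN b r hnr, hf, map_sum]
      have hcast : ∀ i : ZMod p, (i.val : k) = cst k i := fun i => by
        rw [cst, ZMod.castHom_apply, ZMod.cast_eq_val]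
      simp only [map_smul, hπ, inv_inv, hnr, hτ, Pi.sub_apply, Pi.single_apply, e.injective.eq_iff,
        hφY, smul_eq_mul, sub_mul, sum_sub_distrib, ite_mul, one_mul, zero_mul]
      have h3 : ∀ c i : ZMod p, b + r * i = c ↔ i = (c - b) / r := fun c i => by
        rw [eq_div_iff hr, eq_sub_iff_add_eq]
        constructor <;> intro h <;> rw [← h] <;> ring
      simp only [h3, sum_ite_eq', mem_univ, if_true]
      rw [hcast, hcast, ← sub_mul, ← mul_assoc, cst, ← map_sub, ← map_mul,
        show r * ((1 - b) / r - (0 - b) / r) = 1 by field_simp; ring, map_one, one_mul]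
    have hfree : ∀ q : G ⧸ P, ∑ i ∈ range p, φ (F ((fun q => g • q)^[i] q) τ) = 0 := by
      intro q
      have h1 : ∀ i : ℕ, φ (F ((fun q => g • q)^[i] q) τ) =
          φ (F q (Cfsg.permRep k G α ((g ^ i)⁻¹) τ)) := by
        intro i
        simp only [smul_iterate]
        conv_lhs => rw [← QuotientGroup.out_eq' q, MulAction.Quotient.smul_coe, smul_eq_mul,
          hFmk _ _ hτ0, mul_inv_rev, map_mul, map_mul, Module.End.mul_apply, Module.End.mul_apply,
          map_pow, hφpow]
        rw [hF]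
        rfl
      rw [sum_congr rfl fun i _ => h1 i, ← map_sum, ← map_sum]
      have h2 : ∑ i ∈ range p, Cfsg.permRep k G α ((g ^ i)⁻¹) τ = 0 := by
        funext x
        obtain ⟨j, rfl⟩ := e.surjective x
        rw [Finset.sum_apply, Pi.zero_apply, ← hτ0, ← Equiv.sum_comp e τ]
        refine Finset.sum_nbij' (fun i : ℕ => j + (i : ZMod p)) (fun z : ZMod p => (z - j).val)
          (fun _ _ => Finset.mem_univ _) (fun z _ => Finset.mem_range.2 (ZMod.val_lt _))
          (fun i hi => ?_) (fun z _ => ?_) fun i _ => ?_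
        · show (j + (i : ZMod p) - j).val = i
          rw [add_sub_cancel_left]
          exact ZMod.val_cast_of_lt (Finset.mem_range.1 hi)
        · show j + (((z - j).val : ℕ) : ZMod p) = z
          rw [ZMod.natCast_zmod_val, add_sub_cancel]
        · rw [hπ, inv_inv, he]
      rw [h2, map_zero, map_zero]
    have hper : ∀ q : G ⧸ P, (fun q => g • q)^[p] q = q := fun q => by
      simp only [smul_iterate]
      rw [← hg, pow_orderOf_eq_one, one_smul]
    obtain ⟨Fix, hFix⟩ : ∃ Fix, Fix = univ.filter (fun q : G ⧸ P => g • q = q) := ⟨_, rfl⟩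
    have hinv : ∀ q ∈ univ.filter (fun q : G ⧸ P => ¬ g • q = q),
        g • q ∈ univ.filter (fun q : G ⧸ P => ¬ g • q = q) := fun q hq => by
      simp only [mem_filter, mem_univ, true_and] at hq ⊢
      exact fun h => hq (MulAction.injective g h)
    have hm0 : (Fix.card : ZMod p) ≠ 0 := by
      intro h0
      have hz : ((univ.filter (fun q : G ⧸ P => ¬ g • q = q)).card : ZMod p) = 0 := by
        have := CfsgLib.SmallDegree.sum_iterate_mem (fun q : G ⧸ P => g • q) hper
          (fun _ => (1 : ZMod p)) ⊥ (fun q _ => by simp) _ hinv (fun q hq => (mem_filter.1 hq).2)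
        simpa using this
      have htot := card_filter_add_card_filter_not (s := (univ : Finset (G ⧸ P)))
        (fun q => g • q = q)
      apply hsq
      rw [← P.card_mul_index, ← hP, Nat.card_zpowers, hg, sq, hP, Subgroup.index_eq_card]
      refine Nat.mul_dvd_mul_left p ?_
      rw [← ZMod.natCast_eq_zero_iff, Nat.card_eq_fintype_card, ← Finset.card_univ, ← htot,
        Nat.cast_add, hz, add_zero, ← hFix, h0]
    rw [hT, LinearMap.sum_apply, map_sum,
      ← sum_filter_add_sum_filter_not univ (fun q : G ⧸ P => g • q = q), ← hFix]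
    have hR : ∑ q ∈ univ.filter (fun q : G ⧸ P => ¬ g • q = q), φ (F q τ) = 0 := by
      have := CfsgLib.SmallDegree.sum_iterate_mem (fun q : G ⧸ P => g • q) hper
        (fun q => φ (F q τ)) ⊥ (fun q _ => by rw [AddSubgroup.mem_bot]; exact hfree q) _ hinv
        (fun q hq => (mem_filter.1 hq).2)
      rwa [AddSubgroup.mem_bot] at this
    rw [hR, add_zero, sum_congr rfl fun q hq => hval q (by rw [hFix, mem_filter] at hq; exact hq.2),
      sum_const, nsmul_eq_mul]
    refine mul_ne_zero (fun h0 => hm0 ?_) hφy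
    rwa [CharP.cast_eq_zero_iff k p, ← ZMod.natCast_eq_zero_iff] at h0

end CfsgLib.PrimeDegTI
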