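import Cfsg.Agent.GreenThree.Lattice
import Mathlib.RingTheory.RootsOfUnity.Minpoly
import Mathlib.RingTheory.RootsOfUnity.PrimitiveRoots
import Mathlib.Analysis.Complex.Polynomial.Basic
import Mathlib.RingTheory.RootsOfUnity.Complex

/-!
# Weight vectors in a reduction modulo `p`

The lift of the units of `ZMod p` to roots of unity in a valuation ring of `ℂ`, an integral form of
a representation, and the reductions of its eigenvectors for a linear character of a subgroup.
-/

set_option autoImplicit false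
set_option linter.unusedSectionVars false
set_option linter.style.haveILetI false

namespace CfsgLib.PrimeDegTI

open Finset Module
open scoped Classical Matrix

universe u

section domain

variable {A : Type*} [CommRing A] [IsDomain A] [ValuationRing A]

/-- Some member of a finite family divides all of them. -/
theorem exists_dvd_all {ι : Type*} (s : Finset ι) (hs : s.Nonempty) (a : ι → A) :
    ∃ i ∈ s, ∀ j ∈ s, a i ∣ a j := by
  induction hs using Finset.Nonempty.cons_induction with
  | singleton i => exact ⟨i, mem_singleton_self i, fun j hj => by rw [mem_singleton.1 hj]⟩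
  | cons i s his hs ih =>
    obtain ⟨j, hj, hdvd⟩ := ih
    rcases ValuationRing.dvd_total (a i) (a j) with h | h
    · exact ⟨i, mem_cons_self i s, fun l hl => by
        rcases mem_cons.1 hl with rfl | hl
        · exact dvd_rfl
        · exact h.trans (hdvd l hl)⟩
    · exact ⟨j, mem_cons.2 (Or.inr hj), fun l hl => by
        rcases mem_cons.1 hl with rfl | hl
        · exact h
        · exact hdvd l hl⟩

/-- An eigenvector with an entry equal to one. -/
theorem exists_unit_eigen {n : ℕ} {I : Type*} (F : I → Matrix (Fin n) (Fin n) A) (c : I → A)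
    (E : Matrix (Fin n) (Fin n) A) (hE : E ≠ 0) (hFE : ∀ i, F i * E = c i • E) :
    ∃ w : Fin n → A, (∃ a, w a = 1) ∧ ∀ i, F i *ᵥ w = c i • w := by
  obtain ⟨a₀, b, hab⟩ : ∃ a b, E a b ≠ 0 := by
    by_contra h
    push Not at h
    exact hE (Matrix.ext h)
  obtain ⟨a₁, -, hdvd⟩ := exists_dvd_all (univ : Finset (Fin n)) ⟨a₀, mem_univ _⟩ fun a => E a b
  choose w hw using fun a => hdvd a (mem_univ a)
  have hc : E a₁ b ≠ 0 := fun h => hab (by rw [hw a₀, h, zero_mul])
  refine ⟨w, ⟨a₁, mul_left_cancel₀ hc ((hw a₁).symm.trans (mul_one _).symm)⟩, fun i => ?_⟩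
  funext a
  refine mul_left_cancel₀ hc ?_
  have h1 := congrFun (congrFun (hFE i) a) b
  rw [Matrix.mul_apply, Matrix.smul_apply, smul_eq_mul] at h1
  rw [Matrix.mulVec, dotProduct, mul_sum, Pi.smul_apply, smul_eq_mul, mul_left_comm, ← hw a, ← h1]
  exact sum_congr rfl fun l _ => by rw [hw l]; ring

end domain

variable {p : ℕ} [hp : Fact p.Prime] {G : Type u} [Group G] [Fintype G]

/-- **An integral form.** -/
theorem exists_integral_form (A : ValuationSubring ℂ) {n : ℕ}
    (σ : Representation ℂ G (Fin n → ℂ)) :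
    ∃ R : G →* Matrix (Fin n) (Fin n) A,
      ∀ g, (((R g).trace : A) : ℂ) = LinearMap.trace ℂ (Fin n → ℂ) (σ g) := by
  obtain ⟨Λ, hΛ⟩ : ∃ Λ : Submodule A (Fin n → ℂ),
      Submodule.span A (Set.range fun a : G × Fin n => σ a.1 (Pi.single a.2 1)) = Λ := ⟨_, rfl⟩
  haveI : Module.Finite A Λ := hΛ ▸ Module.Finite.span_of_finite A (Set.finite_range _)
  haveI : Module.Flat A Λ := Module.Flat.flat_iff_torsion_eq_bot_of_isBezout.2 (by
    rw [← Submodule.isTorsionFree_iff_torsion_eq_bot]
    infer_instance)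
  haveI : Module.Free A Λ := Module.free_of_flat_of_isLocalRing
  let b₀ := Module.Free.chooseBasis A Λ
  have hmem : ∀ g i, σ g (Pi.single i 1) ∈ Λ := fun g i => by
    rw [← hΛ]; exact Submodule.subset_span ⟨(g, i), rfl⟩
  have hliC : LinearIndependent ℂ fun i => ((b₀ i : Λ) : Fin n → ℂ) :=
    (LinearIndependent.iff_fractionRing A ℂ).1
      (b₀.linearIndependent.map' Λ.subtype (Submodule.ker_subtype Λ))
  have hspanC : ⊤ ≤ Submodule.span ℂ (Set.range fun i => ((b₀ i : Λ) : Fin n → ℂ)) := by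
    intro v _
    rw [pi_eq_sum_univ v]
    refine Submodule.sum_mem _ fun i _ => Submodule.smul_mem _ _ ?_
    have hi : (fun j => if i = j then (1 : ℂ) else 0) = σ 1 (Pi.single i 1) := by
      rw [map_one, Module.End.one_apply]
      funext j
      simp [Pi.single_apply, eq_comm]
    rw [hi]
    have h1 := congrArg Subtype.val (b₀.sum_repr ⟨σ 1 (Pi.single i 1), hmem 1 i⟩)
    simp only [Submodule.coe_sum, Submodule.coe_smul] at h1
    rw [← h1]
    refine Submodule.sum_mem _ fun j _ => ?_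
    exact Submodule.smul_mem (Submodule.span ℂ _) ((b₀.repr ⟨σ 1 (Pi.single i 1), hmem 1 i⟩ j : A) : ℂ)
      (Submodule.subset_span ⟨j, rfl⟩)
  let bC := Module.Basis.mk hliC hspanC
  have hcard : Fintype.card (Module.Free.ChooseBasisIndex A Λ) = n := by
    rw [← Module.finrank_eq_card_basis bC, Module.finrank_fin_fun]
  let ev := Fintype.equivFinOfCardEq hcard
  have hinv : ∀ g, ∀ w ∈ Λ, σ g w ∈ Λ := by
    intro g w hw
    have h : Λ.map ((σ g).restrictScalars A) ≤ Λ := by
      conv_lhs => rw [← hΛ]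
      rw [Submodule.map_span_le]
      rintro _ ⟨a, rfl⟩
      rw [LinearMap.restrictScalars_apply, ← Module.End.mul_apply, ← map_mul]
      exact hmem _ _
    exact h (Submodule.mem_map_of_mem hw)
  let T : G →* Module.End A Λ :=
    { toFun := fun g => ((σ g).restrictScalars A).restrict (hinv g)
      map_one' := LinearMap.ext fun w => Subtype.ext (by simp)
      map_mul' := fun g h => LinearMap.ext fun w => Subtype.ext (show σ (g * h) w = σ g (σ h w) by rw [map_mul]; rfl) }
  have hT : ∀ g (w : Λ), ((T g w : Λ) : Fin n → ℂ) = σ g w := fun g w => rfl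
  obtain ⟨b, hb⟩ : ∃ b, b = b₀.reindex ev := ⟨_, rfl⟩
  refine ⟨(LinearMap.toMatrixAlgEquiv b).toMulEquiv.toMonoidHom.comp T, fun g => ?_⟩
  rw [LinearMap.trace_eq_matrix_trace ℂ (bC.reindex ev), Matrix.trace, Matrix.trace,
    AddSubmonoidClass.coe_finsetSum]
  refine sum_congr rfl fun i _ => ?_
  rw [Matrix.diag_apply, Matrix.diag_apply, LinearMap.toMatrix_apply]
  show ((LinearMap.toMatrixAlgEquiv b (T g) i i : A) : ℂ) = _
  rw [LinearMap.toMatrixAlgEquiv_apply]
  have hσ : σ g ((bC.reindex ev) i) =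
      ∑ a, (((b.repr (T g (b i))) a : A) : ℂ) • (bC.reindex ev) a := by
    have h1 := congrArg Subtype.val (b.sum_repr (T g (b i)))
    rw [hT, Submodule.coe_sum] at h1
    have hv : ∀ a, (bC.reindex ev) a = ((b a : Λ) : Fin n → ℂ) := fun a => by simp [bC, hb]
    simp only [hv]
    exact h1.symm
  rw [hσ, Basis.repr_sum_self]

/-- The lift of the units of `ZMod p`. -/
theorem exists_units_lift (A : ValuationSubring ℂ) [CharP (IsLocalRing.ResidueField A) p] :
    ∃ L : (ZMod p)ˣ →* Aˣ, ∀ u : (ZMod p)ˣ, IsLocalRing.residue A ((L u : Aˣ) : A) =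
      ZMod.castHom (dvd_refl p) (IsLocalRing.ResidueField A) (u : ZMod p) := by
  haveI : NeZero (p - 1) := ⟨(Nat.sub_pos_of_lt hp.out.one_lt).ne'⟩
  obtain ⟨res, hres⟩ : ∃ res, res = IsLocalRing.residue A := ⟨_, rfl⟩
  have hp1 : ((p - 1 : ℕ) : IsLocalRing.ResidueField A) ≠ 0 := fun h => by
    rw [CharP.cast_eq_zero_iff (IsLocalRing.ResidueField A) p] at h
    exact absurd (Nat.le_of_dvd (Nat.sub_pos_of_lt hp.out.one_lt) h)
      (Nat.not_le.2 (Nat.sub_lt hp.out.pos Nat.one_pos))
  let f₀ : rootsOfUnity (p - 1) A →* rootsOfUnity (p - 1) (IsLocalRing.ResidueField A) :=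
    restrictRootsOfUnity (res : A →* IsLocalRing.ResidueField A) (p - 1)
  have hf₀ : Function.Injective f₀ := by
    rw [injective_iff_map_eq_one]
    intro z hz
    by_contra hz1
    have hz' : res ((z : Aˣ) : A) = 1 := congrArg (fun w : rootsOfUnity (p - 1) (IsLocalRing.ResidueField A) => ((w : (IsLocalRing.ResidueField A)ˣ) : IsLocalRing.ResidueField A)) hz
    have hzp : ((z : Aˣ) : A) ^ (p - 1) = 1 := by
      rw [← Units.val_pow_eq_pow_val, (mem_rootsOfUnity _ _).1 z.2, Units.val_one]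
    have hne : ((z : Aˣ) : A) - 1 ≠ 0 := fun h => hz1 (Subtype.ext (Units.ext (sub_eq_zero.1 h)))
    have hsum : ∑ i ∈ range (p - 1), ((z : Aˣ) : A) ^ i = 0 := by
      have := mul_geom_sum ((z : Aˣ) : A) (p - 1)
      rw [hzp, sub_self, mul_eq_zero] at this
      exact this.resolve_left hne
    have h2 := congrArg res hsum
    rw [map_sum, map_zero] at h2
    simp only [map_pow, hz', one_pow, sum_const, card_range, nsmul_one] at h2
    exact hp1 h2
  have hcardA : p - 1 ≤ Nat.card (rootsOfUnity (p - 1) A) := by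
    obtain ⟨ζ, hζ⟩ : ∃ ζ : ℂ, IsPrimitiveRoot ζ (p - 1) :=
      ⟨_, Complex.isPrimitiveRoot_exp (p - 1) (NeZero.ne _)⟩
    have hval : A.valuation ζ = 1 := by
      have h := congrArg A.valuation hζ.pow_eq_one
      rw [map_pow, map_one] at h
      exact (pow_eq_one_iff.1 h).resolve_right (NeZero.ne _)
    have hmem : ζ ∈ A := (A.valuation_le_one_iff ζ).1 hval.le
    have hζA : IsPrimitiveRoot (⟨ζ, hmem⟩ : A) (p - 1) :=
      IsPrimitiveRoot.of_map_of_injective (f := A.subtype) hζ Subtype.coe_injective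
    exact hζA.card_rootsOfUnity.ge
  have hcardk : Nat.card (rootsOfUnity (p - 1) (IsLocalRing.ResidueField A)) ≤ p - 1 := by
    exact card_rootsOfUnity _ _
  have hbij : Function.Bijective f₀ :=
    (Nat.bijective_iff_injective_and_card f₀).2
      ⟨hf₀, le_antisymm (Nat.card_le_card_of_injective f₀ hf₀) (hcardk.trans hcardA)⟩
  let g₀ : (ZMod p)ˣ →* rootsOfUnity (p - 1) (IsLocalRing.ResidueField A) :=
    MonoidHom.codRestrict (Units.map (ZMod.castHom (dvd_refl p) (IsLocalRing.ResidueField A) : ZMod p →* _))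
      (rootsOfUnity (p - 1) (IsLocalRing.ResidueField A)) fun u => by
        rw [mem_rootsOfUnity, ← map_pow, ZMod.units_pow_card_sub_one_eq_one, map_one]
  refine ⟨(rootsOfUnity (p - 1) A).subtype.comp ((MulEquiv.ofBijective f₀ hbij).symm.toMonoidHom.comp g₀),
    fun u => ?_⟩
  have h := MulEquiv.apply_symm_apply (MulEquiv.ofBijective f₀ hbij) (g₀ u)
  rw [← hres]
  exact congrArg (fun w : rootsOfUnity (p - 1) (IsLocalRing.ResidueField A) =>
    ((w : (IsLocalRing.ResidueField A)ˣ) : IsLocalRing.ResidueField A)) h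

/-- **Weight vector and weight functional in the reduction.** -/
theorem exists_weight_model (A : ValuationSubring ℂ) {n : ℕ}
    (σ : Representation ℂ G (Fin n → ℂ)) (N : Subgroup G) (μ : N →* Aˣ)
    (h1 : ∑ m : N, (((μ m⁻¹ : Aˣ) : A) : ℂ) * LinearMap.trace ℂ (Fin n → ℂ) (σ m) ≠ 0)
    (h2 : ∑ m : N, (((μ m : Aˣ) : A) : ℂ) * LinearMap.trace ℂ (Fin n → ℂ) (σ m) ≠ 0) :
    ∃ (ρ : G →* Module.End (IsLocalRing.ResidueField A) (Fin n → IsLocalRing.ResidueField A))
      (v : Fin n → IsLocalRing.ResidueField A)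
      (φ : (Fin n → IsLocalRing.ResidueField A) →ₗ[IsLocalRing.ResidueField A] IsLocalRing.ResidueField A),
      v ≠ 0 ∧ φ ≠ 0 ∧
      (∀ m : N, ρ m v = IsLocalRing.residue A ((μ m⁻¹ : Aˣ) : A) • v) ∧
      (∀ (m : N) x, φ (ρ m x) = IsLocalRing.residue A ((μ m : Aˣ) : A) * φ x) ∧
      ∀ g, ∃ a : A, (a : ℂ) = LinearMap.trace ℂ (Fin n → ℂ) (σ g) ∧
        LinearMap.trace (IsLocalRing.ResidueField A) _ (ρ g) = IsLocalRing.residue A a := by
  obtain ⟨R, hR⟩ := exists_integral_form A σ
  obtain ⟨res, hres⟩ : ∃ res, res = IsLocalRing.residue A := ⟨_, rfl⟩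
  obtain ⟨ρ, hρ⟩ : ∃ ρ : G →* Module.End (IsLocalRing.ResidueField A) (Fin n → IsLocalRing.ResidueField A),
      ∀ g, ρ g = Matrix.toLinAlgEquiv' (res.mapMatrix (R g)) :=
    ⟨Matrix.toLinAlgEquiv'.toMulEquiv.toMonoidHom.comp ((res.mapMatrix.toMonoidHom).comp R),
      fun _ => rfl⟩
  have hne : ∀ c : N →* Aˣ, ∑ m : N, (((c m : Aˣ) : A) : ℂ) * LinearMap.trace ℂ (Fin n → ℂ) (σ m) ≠ 0 →
      ∑ m : N, ((c m : Aˣ) : A) • R m ≠ 0 := by
    intro c hc h0
    apply hc
    have h := congrArg (fun M : Matrix (Fin n) (Fin n) A => ((M.trace : A) : ℂ)) h0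
    simp only [Matrix.trace_sum, Matrix.trace_smul, Matrix.trace_zero, AddSubmonoidClass.coe_finsetSum,
      smul_eq_mul, MulMemClass.coe_mul, hR, ZeroMemClass.coe_zero] at h
    exact h
  -- the column
  obtain ⟨w, ⟨aw, haw⟩, hw⟩ := exists_unit_eigen (fun m : N => R m)
    (fun m : N => ((μ m⁻¹ : Aˣ) : A)) (∑ m : N, ((μ m : Aˣ) : A) • R m) (hne μ h2) fun l => by
      rw [mul_sum, smul_sum]
      refine Fintype.sum_equiv (Equiv.mulLeft l) _ _ fun m => ?_
      rw [mul_smul_comm, ← map_mul R, Equiv.coe_mulLeft, smul_smul, ← Units.val_mul, ← map_mul μ,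
        inv_mul_cancel_left, Subgroup.coe_mul]
  -- the row
  obtain ⟨r, ⟨ar, har⟩, hr⟩ := exists_unit_eigen (fun m : N => (R m)ᵀ)
    (fun m : N => ((μ m : Aˣ) : A)) (∑ m : N, ((μ m⁻¹ : Aˣ) : A) • (R m)ᵀ) (fun h0 => by
      refine hne ((μ : N →* Aˣ)⁻¹) ?_ ?_
      · simpa using h1
      · have := congrArg Matrix.transpose h0
        simpa [Matrix.transpose_sum] using this) fun l => by
      rw [mul_sum, smul_sum]
      refine Fintype.sum_equiv (Equiv.mulRight l) _ _ fun m => ?_
      rw [mul_smul_comm, ← Matrix.transpose_mul, ← map_mul R, Equiv.coe_mulRight, smul_smul,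
        ← Units.val_mul, ← map_mul μ, mul_inv_rev, mul_inv_cancel_left, Subgroup.coe_mul]
  have hres' : ∀ (m : Matrix (Fin n) (Fin n) A) (x : Fin n → A),
      (res.mapMatrix m) *ᵥ (fun a => res (x a)) = fun a => res ((m *ᵥ x) a) := fun m x => by
    funext a; simp [Matrix.mulVec, dotProduct]
  let φ : (Fin n → IsLocalRing.ResidueField A) →ₗ[IsLocalRing.ResidueField A] IsLocalRing.ResidueField A :=
    ∑ a, res (r a) • LinearMap.proj a
  have hφ : ∀ x, φ x = ∑ a, res (r a) * x a := fun x => by simp [φ]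
  refine ⟨ρ, fun a => res (w a), φ, fun h => ?_, fun h => ?_, fun m => ?_, fun m x => ?_, fun g => ?_⟩
  · have := congrFun h aw
    rw [haw, map_one] at this
    exact one_ne_zero this
  · have := LinearMap.congr_fun h (Pi.single ar 1)
    rw [hφ, Finset.sum_eq_single ar (fun a _ ha => by simp [ha]) (fun h => absurd (mem_univ _) h),
      har, map_one, one_mul, Pi.single_eq_same] at this
    exact one_ne_zero this
  · rw [← hres, hρ, Matrix.toLinAlgEquiv'_apply, hres', hw m]
    funext a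
    simp
  · rw [← hres, hρ, Matrix.toLinAlgEquiv'_apply, hφ, hφ, mul_sum]
    simp only [Matrix.mulVec, dotProduct, mul_sum, RingHom.mapMatrix_apply, Matrix.map_apply]
    rw [sum_comm]
    refine sum_congr rfl fun b _ => ?_
    have h := congrArg res (congrFun (hr m) b)
    simp only [Matrix.mulVec, dotProduct, Matrix.transpose_apply, map_sum, map_mul, Pi.smul_apply,
      smul_eq_mul] at h
    rw [← mul_assoc, ← h, sum_mul]
    exact sum_congr rfl fun a _ => by ring
  · refine ⟨(R g).trace, hR g, ?_⟩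
    rw [hρ, ← hres, Matrix.trace, map_sum,
      LinearMap.trace_eq_matrix_trace _ (Pi.basisFun (IsLocalRing.ResidueField A) (Fin n)), Matrix.trace]
    refine sum_congr rfl fun a _ => ?_
    simp

end CfsgLib.PrimeDegTI
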