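import Cfsg.Agent.PrimeDegTI.Setup
import Cfsg.Agent.BrauerPrime.Setup

/-!
# The complement `E`: numerical facts and the inversion of its odd part
-/

set_option autoImplicit false
set_option linter.unusedSectionVars false
set_option linter.style.haveILetI false

namespace CfsgLib.PrimeDegTI

open Subgroup MulAction
open scoped Classical

universe u

/-- In a cyclic group an element lies in the powers of any element of the same order. -/
theorem mem_zpowers_of_order {C : Type*} [Group C] [Finite C] [IsCyclic C] {x z : C}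
    (h : orderOf z = orderOf x) : z ∈ zpowers x := by
  haveI := Fintype.ofFinite C
  have h1 : (Finset.univ.filter fun w : C => w ^ orderOf x = 1).card ≤ orderOf x :=
    IsCyclic.card_pow_eq_one_le (orderOf_pos _)
  have h2 : (Finset.univ.filter fun w : C => w ∈ zpowers x) ⊆
      Finset.univ.filter fun w : C => w ^ orderOf x = 1 := fun w hw => by
    simp only [Finset.mem_filter, Finset.mem_univ, true_and] at hw ⊢
    exact orderOf_dvd_iff_pow_eq_one.1 (orderOf_dvd_of_mem_zpowers hw)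
  have h4 : (Finset.univ.filter fun w : C => w ∈ zpowers x).card = orderOf x := by
    rw [← Nat.card_zpowers, Nat.card_eq_fintype_card, Fintype.card_subtype]
  have h5 := Finset.eq_of_subset_of_card_le h2 (h4 ▸ h1)
  have h6 : z ∈ Finset.univ.filter fun w : C => w ^ orderOf x = 1 := by
    simp [← h, pow_orderOf_eq_one]
  rw [← h5] at h6
  simpa using h6

variable {p : ℕ} [hp : Fact p.Prime] {G : Type u} [Group G] [Fintype G] {α : Type u}
  [MulAction G α] [FaithfulSMul G α] [MulAction.IsPretransitive G α]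
variable {P : Sylow p G} {E : Subgroup G}

namespace Hyp

variable (H : Hyp α P E)
include H

theorem centralizer_P : centralizer ((P : Subgroup G) : Set G) = P := by
  obtain ⟨g, hg, hP⟩ := CfsgLib.PrimeDegree.exists_sylow_generator H.hcard P
  obtain ⟨e, he⟩ := CfsgLib.PrimeDegree.exists_chart H.hcard hg
  obtain ⟨m, hm, hker⟩ := exists_mult H.hcard hg he
  refine le_antisymm (fun x hx => ?_) (CfsgLib.BrauerPrime.le_centralizer H.setup)
  have hxN : x ∈ normalizer (zpowers g : Set G) := hP ▸ centralizer_le_normalizer _ hx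
  have hxg : g * x = x * g := mem_centralizer_iff.1 hx g (hP ▸ mem_zpowers g)
  obtain ⟨b, hb⟩ := hm ⟨x, hxN⟩
  have hg1 : ∀ i, g • e i = e (i + 1) := fun i => by
    have := he 1 i
    rwa [pow_one, Nat.cast_one] at this
  have h1 := congrArg (fun y : G => y • e 0) hxg
  simp only [mul_smul] at h1
  rw [hb, hg1, hg1, hb, e.injective.eq_iff] at h1
  rw [hP]
  exact (hker ⟨x, hxN⟩).1 (Units.ext (by rw [Units.val_one]; linear_combination -h1))

/-- The numerical invariants. -/
theorem exists_num : ∃ n, CfsgLib.BrauerPrime.Num P 1 (Nat.card E) n := by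
  obtain ⟨n, hn⟩ : ∃ n, Nat.card (Sylow p G) = 1 + n * p := by
    haveI : Fact p.Prime := hp
    have h := card_sylow_modEq_one p G
    refine ⟨Nat.card (Sylow p G) / p, ?_⟩
    have h2 := Nat.div_add_mod (Nat.card (Sylow p G)) p
    have h3 : Nat.card (Sylow p G) % p = 1 % p := h
    rw [h3, Nat.mod_eq_of_lt hp.out.one_lt] at h2
    rw [mul_comm]; omega
  obtain ⟨c, e', num⟩ := CfsgLib.BrauerPrime.exists_num H.setup hn
  have hc := num.cardC
  rw [H.centralizer_P, show Nat.card (P : Subgroup G) = p from H.cardP] at hc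
  have hc1 : c = 1 := by
    have h3 : p * 1 = p * c := (mul_one p).trans hc
    exact (Nat.eq_of_mul_eq_mul_left hp.out.pos h3).symm
  subst hc1
  have hN := num.cardN
  rw [H.card_normalizer_P, mul_one] at hN
  rw [← Nat.eq_of_mul_eq_mul_left hp.out.pos hN] at num
  exact ⟨n, num⟩

theorem two_le_card_E : 2 ≤ Nat.card E := by
  obtain ⟨n, num⟩ := H.exists_num
  exact num.epos

theorem E_ne_bot : E ≠ ⊥ := fun h => by
  have := H.two_le_card_E
  rw [h, Subgroup.card_bot] at this
  omega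

theorem card_E_dvd : Nat.card E ∣ p - 1 := by
  obtain ⟨g, hg, hP⟩ := CfsgLib.PrimeDegree.exists_sylow_generator H.hcard P
  obtain ⟨e, he⟩ := CfsgLib.PrimeDegree.exists_chart H.hcard hg
  obtain ⟨m, -, hker⟩ := exists_mult H.hcard hg he
  have hEN : E ≤ normalizer (zpowers g : Set G) := hP ▸ H.E_le
  rw [← ZMod.card_units p, ← Nat.card_eq_fintype_card]
  refine Subgroup.card_dvd_of_injective (m.comp (inclusion hEN)) fun a b hab => ?_
  rw [MonoidHom.comp_apply, MonoidHom.comp_apply, ← mul_inv_eq_one, ← map_inv, ← map_mul] at hab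
  have h2 : ((a * b⁻¹ : E) : G) ∈ (P : Subgroup G) ⊓ E := ⟨by
    have := (hker _).1 hab
    rw [hP]; simpa using this, (a * b⁻¹).2⟩
  rw [H.hPE', mem_bot, OneMemClass.coe_eq_one, mul_inv_eq_one] at h2
  exact h2

theorem five_le : 5 ≤ p := by
  obtain ⟨n, num⟩ := H.exists_num
  have h1 := H.card_E_dvd
  have h2 := H.two_le_card_E
  have h3 : p ≠ 2 := fun h => by
    subst h
    have := Nat.le_of_dvd (by norm_num) h1
    omega
  have h4 : p ≠ 3 := fun h => by
    subst h
    haveI := finite_of_card (α := α) H.hcard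
    have h5 : Nat.card G ∣ Nat.card (Equiv.Perm α) :=
      Subgroup.card_dvd_of_injective (MulAction.toPermHom G α) MulAction.toPerm_injective
    rw [Nat.card_perm, H.hcard, num.cardG] at h5
    have h6 := Nat.le_of_dvd (by decide) h5
    have h7 := num.npos
    have h8 : Nat.factorial 3 = 6 := rfl
    have h9 : 3 * 1 * 2 * (1 + 1 * 3) ≤ 3 * 1 * Nat.card E * (1 + n * 3) := by gcongr
    omega
  have := hp.out.two_le
  have h5 : p ≠ 4 := fun h => by rw [h] at hp; exact absurd hp.out (by norm_num)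
  omega

theorem not_dvd_E : ¬ p ∣ Nat.card E := fun h => by
  have h1 := Nat.le_of_dvd Nat.card_pos h
  have h2 := Nat.le_of_dvd (by have := H.five_le; omega) H.card_E_dvd
  have := H.five_le
  omega

theorem ti {g x : G} (hx : x ∈ E) (hx1 : x ≠ 1) (hg : g * x * g⁻¹ ∈ E) :
    g ∈ normalizer (E : Set G) := by
  by_contra h
  have hm : g * x * g⁻¹ ∈ E ⊓ E.map (MulAut.conj g).toMonoidHom := ⟨hg, x, hx, rfl⟩
  rw [H.hTI g h, mem_bot, conj_eq_one_iff] at hm
  exact hx1 hm

theorem centralizer_le {x : G} (hx : x ∈ E) (hx1 : x ≠ 1) :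
    centralizer ({x} : Set G) ≤ normalizer (E : Set G) := fun g hg => H.ti hx hx1 (by
  rw [mul_inv_eq_of_eq_mul (mem_centralizer_singleton_iff.1 hg)]; exact hx)

theorem index_two : (E.subgroupOf (normalizer (E : Set G))).index = 2 := by
  have h := card_mul_index (E.subgroupOf (normalizer (E : Set G)))
  rw [Nat.card_congr (subgroupOfEquivOfLe le_normalizer).toEquiv, H.hNE] at h
  have := H.two_le_card_E
  nlinarith

theorem exists_t : ∃ t ∈ normalizer (E : Set G), t ∉ E := by
  by_contra h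
  push Not at h
  have h1 := Subgroup.card_le_of_le (show normalizer (E : Set G) ≤ E from fun x hx => h x hx)
  rw [H.hNE] at h1
  have := H.two_le_card_E
  omega

variable {t : G} (ht : t ∈ normalizer (E : Set G)) (htE : t ∉ E)
include ht htE

theorem cases {x : G} (hx : x ∈ normalizer (E : Set G)) : x ∈ E ∨ x * t⁻¹ ∈ E := by
  by_cases h : x ∈ E
  · exact Or.inl h
  · right
    have := (mul_mem_iff_of_index_two H.index_two (a := ⟨x, hx⟩) (b := ⟨t⁻¹, inv_mem ht⟩)).2
      (iff_of_false (by simpa [mem_subgroupOf] using h) (by simpa [mem_subgroupOf] using htE))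
    simpa [mem_subgroupOf] using this

theorem t_sq : t * t ∈ E := by
  have := (mul_mem_iff_of_index_two H.index_two (a := ⟨t, ht⟩) (b := ⟨t, ht⟩)).2 Iff.rfl
  simpa [mem_subgroupOf] using this

theorem conj_mem {x : G} (hx : x ∈ E) : t * x * t⁻¹ ∈ E := (mem_normalizer_iff.1 ht x).1 hx

theorem conj_conj {x : G} (hx : x ∈ E) : t * (t * x * t⁻¹) * t⁻¹ = x := by
  calc t * (t * x * t⁻¹) * t⁻¹ = (t * t) * x * (t * t)⁻¹ := by group
    _ = x := by rw [mul_inv_eq_iff_eq_mul]; exact H.E_comm (H.t_sq ht htE) hx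

/-- An element of odd prime order of `E` is not fixed. -/
theorem not_fixed {l : ℕ} [hl : Fact l.Prime] (hl2 : l ≠ 2) {x : G} (hx : x ∈ E)
    (hxo : orderOf x = l) : t * x * t⁻¹ ≠ x := by
  intro hfix
  haveI := H.isCyclic_E
  obtain ⟨L⟩ := (Sylow.nonempty : Nonempty (Sylow l E))
  obtain ⟨M, hM⟩ : ∃ M : Subgroup G, M = (L : Subgroup E).map E.subtype := ⟨_, rfl⟩
  have hME : M ≤ E := hM ▸ map_subtype_le _
  have hmemL : ∀ z : E, IsPGroup l (zpowers z) → z ∈ (L : Subgroup E) := fun z hz => by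
    haveI : (L : Subgroup E).Normal := ⟨fun a ha c => by
      rw [show c * a * c⁻¹ = a by
        rw [mul_inv_eq_iff_eq_mul]; exact Subtype.ext (H.E_comm c.2 a.2)]
      exact ha⟩
    rw [← L.3 (L.2.to_sup_of_normal_left hz) le_sup_left]
    exact mem_sup_right (mem_zpowers z)
  have hxM : x ∈ M := hM ▸ ⟨⟨x, hx⟩, hmemL _ (IsPGroup.of_card (n := 1) (by
      rw [Nat.card_zpowers, Subgroup.orderOf_mk, hxo, pow_one])), rfl⟩
  have hMp : IsPGroup l M := hM ▸ L.2.map _
  -- the automorphism is trivial on `M`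
  have hcent : ∀ y ∈ M, t * y * t⁻¹ = y := by
    intro y hy
    obtain ⟨z, hz⟩ : ∃ z, z = y * (t * y * t⁻¹)⁻¹ := ⟨_, rfl⟩
    have hσM : t * y * t⁻¹ ∈ M := by
      have hyE := hME hy
      have hσ := H.conj_mem ht htE hyE
      have : (⟨t * y * t⁻¹, hσ⟩ : E) ∈ zpowers (⟨y, hyE⟩ : E) := mem_zpowers_of_order (by
        rw [Subgroup.orderOf_mk, Subgroup.orderOf_mk]
        exact (orderOf_injective (MulAut.conj t).toMonoidHom (MulAut.conj t).injective y))
      obtain ⟨k, hk⟩ := mem_zpowers_iff.1 this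
      have hk' : y ^ k = t * y * t⁻¹ := congrArg Subtype.val hk
      rw [← hk']; exact zpow_mem hy k
    have hzM : z ∈ M := hz ▸ mul_mem hy (inv_mem hσM)
    by_contra hne
    have hz1 : z ≠ 1 := fun h => hne (by
      rw [hz, mul_inv_eq_one] at h; exact h.symm)
    have hzinv : t * z * t⁻¹ = z⁻¹ := by
      have h2 : t * (t * y * t⁻¹) * t⁻¹ = y := H.conj_conj ht htE (hME hy)
      calc t * z * t⁻¹ = (t * y * t⁻¹) * (t * (t * y * t⁻¹) * t⁻¹)⁻¹ := by rw [hz]; group
        _ = (t * y * t⁻¹) * y⁻¹ := by rw [h2]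
        _ = z⁻¹ := by rw [hz]; group
    obtain ⟨k, hk⟩ := hMp ⟨z, hzM⟩
    obtain ⟨j, hj⟩ : ∃ j, orderOf z = l ^ (j + 1) := by
      have hd : orderOf z ∣ l ^ k := orderOf_dvd_of_pow_eq_one (congrArg Subtype.val hk)
      obtain ⟨j, -, hj⟩ := (Nat.dvd_prime_pow hl.out).1 hd
      rcases j with _ | j
      · exact absurd (orderOf_eq_one_iff.1 (by simpa using hj)) hz1
      · exact ⟨j, hj⟩
    have hw : orderOf (z ^ (l ^ j)) = l := by
      rw [orderOf_pow' _ (pow_ne_zero _ hl.out.ne_zero), hj,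
        Nat.gcd_eq_right (pow_dvd_pow l (Nat.le_succ j)), pow_succ, Nat.mul_div_cancel_left _
        (pow_pos hl.out.pos j)]
    have hmem : (⟨x, hx⟩ : E) ∈ zpowers (⟨z ^ (l ^ j), pow_mem (hME hzM) _⟩ : E) :=
      mem_zpowers_of_order (by rw [Subgroup.orderOf_mk, Subgroup.orderOf_mk, hw, hxo])
    obtain ⟨i, hi⟩ := mem_zpowers_iff.1 hmem
    have hi' : (z ^ (l ^ j)) ^ i = x := congrArg Subtype.val hi
    have hxinv : t * x * t⁻¹ = x⁻¹ := by
      rw [← hi', ← conj_zpow, ← conj_pow, hzinv, inv_pow, inv_zpow]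
    rw [hfix] at hxinv
    have h2 : x ^ 2 = 1 := by rw [sq]; nth_rewrite 2 [hxinv]; rw [mul_inv_cancel]
    have h3 := orderOf_dvd_of_pow_eq_one h2
    rw [hxo] at h3
    exact hl2 ((Nat.prime_dvd_prime_iff_eq hl.out Nat.prime_two).1 h3)
  -- `M` is a Sylow subgroup with central normalizer
  have hx1 : x ≠ 1 := fun h => by rw [h, orderOf_one] at hxo; exact hl.out.one_lt.ne hxo
  have hNM : normalizer (M : Set G) ≤ centralizer (M : Set G) := fun n hn => by
    have hnE : n ∈ normalizer (E : Set G) :=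
      H.ti hx hx1 (hME ((mem_normalizer_iff.1 hn x).1 hxM))
    refine mem_centralizer_iff.2 fun y hy => ?_
    rcases H.cases ht htE hnE with h | h
    · exact H.E_comm (hME hy) h
    · rw [show n = n * t⁻¹ * t by group, ← mul_assoc, H.E_comm (hME hy) h, mul_assoc (n * t⁻¹) y,
        ← mul_inv_eq_iff_eq_mul.1 (hcent y hy), ← mul_assoc]
  have hSyl : ¬ l ∣ M.index := by
    intro hd
    obtain ⟨R, hR⟩ := hMp.exists_le_sylow
    rcases eq_or_ne M (R : Subgroup G) with heq | hne
    · exact Sylow.not_dvd_index R (heq ▸ hd)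
    have hlt : (M.subgroupOf R) < ⊤ := lt_top_iff_ne_top.2 fun h => hne
      (le_antisymm hR (subgroupOf_eq_top.1 h))
    haveI : Group.IsNilpotent (R : Subgroup G) := R.2.isNilpotent
    obtain ⟨⟨n, hnR⟩, hnN, hnM⟩ := SetLike.exists_of_lt
      (normalizerCondition_of_isNilpotent (G := (R : Subgroup G)) _ hlt)
    have hnNM : n ∈ normalizer (M : Set G) := mem_normalizer_iff.2 fun y => by
      constructor
      · intro hy
        exact mem_subgroupOf.1 ((mem_normalizer_iff.1 hnN ⟨y, hR hy⟩).1 hy)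
      · intro hy
        have hyR : y ∈ (R : Subgroup G) := by
          have := (R : Subgroup G).mul_mem ((R : Subgroup G).mul_mem ((R : Subgroup G).inv_mem hnR) (hR hy)) hnR
          rwa [show n⁻¹ * (n * y * n⁻¹) * n = y by group] at this
        exact mem_subgroupOf.1 ((mem_normalizer_iff.1 hnN ⟨y, hyR⟩).2 hy)
    have hnE : n ∈ normalizer (E : Set G) := H.ti hx hx1 (hME ((mem_normalizer_iff.1 hnNM x).1 hxM))
    refine hnM ?_
    rw [mem_subgroupOf]
    show n ∈ M
    obtain ⟨k, hk⟩ := R.2 ⟨n, hnR⟩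
    have hnk : n ^ (l ^ k) = 1 := congrArg Subtype.val hk
    have hnE' : n ∈ E := by
      rcases H.cases ht htE hnE with h | h
      · exact h
      have hodd : Odd (l ^ k) := (hl.out.odd_of_ne_two hl2).pow
      by_contra hne'
      have key : ∀ q, n ^ (2 * q) ∈ E := fun q => by
        rw [pow_mul, sq]
        refine pow_mem ?_ q
        have := (mul_mem_iff_of_index_two H.index_two (a := ⟨n, hnE⟩) (b := ⟨n, hnE⟩)).2 Iff.rfl
        simpa [mem_subgroupOf] using this
      obtain ⟨q, hq⟩ := hodd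
      have h1 : n ^ (l ^ k) = 1 := congrArg Subtype.val hk
      rw [hq, pow_succ] at h1
      exact hne' (by rw [← inv_eq_of_mul_eq_one_right h1]; exact inv_mem (key q))
    exact hM ▸ ⟨⟨n, hnE'⟩, hmemL _ (IsPGroup.iff_orderOf.2 fun g => by
      obtain ⟨j, -, hj⟩ := (Nat.dvd_prime_pow hl.out).1 ((orderOf_dvd_of_mem_zpowers g.2).trans
        (orderOf_dvd_of_pow_eq_one (show (⟨n, hnE'⟩ : E) ^ l ^ k = 1 from
          Subtype.ext hnk)))
      exact ⟨j, by rw [← Subgroup.orderOf_coe]; exact hj⟩), rfl⟩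
  let S : Sylow l G := hMp.toSylow hSyl
  have hle : normalizer ((S : Subgroup G) : Set G) ≤ centralizer ((S : Subgroup G) : Set G) := hNM
  have hker : (MonoidHom.transferSylow S hle).ker = ⊤ := by
    rw [eq_top_iff, ← H.perfect, _root_.commutator_def, Subgroup.commutator_le]
    intro a _ b _
    rw [MonoidHom.mem_ker, map_commutatorElement, commutatorElement_eq_one_iff_mul_comm]
    exact Subtype.ext (H.E_comm (hME (MonoidHom.transferSylow S hle a).2)
      (hME (MonoidHom.transferSylow S hle b).2))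
  have hcomp := (MonoidHom.ker_transferSylow_isComplement' S hle).disjoint
  rw [hker] at hcomp
  have hbot : M = ⊥ := top_disjoint.1 hcomp
  rw [hbot, mem_bot] at hxM
  exact hx1 hxM

/-- The odd part of `E` is inverted. -/
theorem inv_of_odd {x : G} (hx : x ∈ E) (hodd : Odd (orderOf x)) : t * x * t⁻¹ = x⁻¹ := by
  obtain ⟨y, hy⟩ : ∃ y, y = x * (t * x * t⁻¹) := ⟨_, rfl⟩
  have hσ := H.conj_mem ht htE hx
  have hyE : y ∈ E := hy ▸ mul_mem hx hσ
  have hfix : t * y * t⁻¹ = y := by
    calc t * y * t⁻¹ = (t * x * t⁻¹) * (t * (t * x * t⁻¹) * t⁻¹) := by rw [hy]; group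
      _ = (t * x * t⁻¹) * x := by rw [H.conj_conj ht htE hx]
      _ = y := by rw [hy, H.E_comm hσ hx]
  have hyo : Odd (orderOf y) := by
    have h1 : y ^ orderOf x = 1 := by
      rw [hy, Commute.mul_pow (H.E_comm hx hσ), pow_orderOf_eq_one, one_mul, conj_pow,
        pow_orderOf_eq_one]
      group
    exact hodd.of_dvd_nat (orderOf_dvd_of_pow_eq_one h1)
  by_contra hne
  have hy1 : y ≠ 1 := fun h => hne (by rw [hy, mul_eq_one_iff_inv_eq] at h; exact h.symm)
  obtain ⟨l, hl, hld⟩ := Nat.exists_prime_and_dvd (fun h => hy1 (orderOf_eq_one_iff.1 h))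
  haveI := Fact.mk hl
  have hl2 : l ≠ 2 := fun h => by
    subst h
    exact (Nat.not_even_iff_odd.2 hyo) (even_iff_two_dvd.2 hld)
  obtain ⟨d, hd⟩ := hld
  have hd0 : d ≠ 0 := fun h => by
    rw [h, mul_zero] at hd; exact (orderOf_pos y).ne' hd
  refine H.not_fixed ht htE hl2 (x := y ^ d) (pow_mem hyE d) ?_ ?_
  · rw [orderOf_pow' _ hd0, hd, Nat.gcd_eq_right (dvd_mul_left d l), Nat.mul_div_cancel _
      (Nat.pos_of_ne_zero hd0)]
  · rw [← conj_pow, hfix]

end Hyp

end CfsgLib.PrimeDegTI
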