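import Cfsg.Agent.PrimeDegTI.Chain
import Cfsg.Agent.PrimeDegTI.HeartMap
import Cfsg.Agent.GreenThree.Field
import Cfsg.Agent.Perm.PrimeDegreeModule
import Mathlib.LinearAlgebra.Eigenspace.Zero
import Mathlib.LinearAlgebra.Charpoly.Basic
import Mathlib.LinearAlgebra.Trace

/-!
# A three dimensional quotient and the Sylow count

A module of dimension `p + 1` with weight vector, weight functional and the trace of `h + h⁻¹` on
the normalizer contains, itself or in its dual, the heart of the permutation module; the quotient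
has dimension three and is nontrivial.
-/

set_option autoImplicit false
set_option linter.unusedSectionVars false
set_option linter.style.haveILetI false

namespace CfsgLib.PrimeDegTI

open Module Finset
open scoped Classical

universe u v w

/-- The trace through an invariant subspace and the quotient by it. -/
theorem trace_eq_add {k : Type v} [Field k] {V : Type w} [AddCommGroup V] [Module k V]
    [FiniteDimensional k V] {Q : Type*} [AddCommGroup Q] [Module k Q] (f : Module.End k V)
    (W : Submodule k V) (hW : ∀ x ∈ W, f x ∈ W) (q : V →ₗ[k] Q) (hq : Function.Surjective q)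
    (hker : LinearMap.ker q = W) (g : Module.End k Q) (hg : ∀ x, g (q x) = q (f x)) :
    LinearMap.trace k V f = LinearMap.trace k W (f.restrict hW) + LinearMap.trace k Q g := by
  obtain ⟨C, hC⟩ := W.exists_isCompl
  have hsplit : f = W.subtype ∘ₗ (W.projectionOnto C hC ∘ₗ f) +
      C.subtype ∘ₗ (C.projectionOnto W hC.symm ∘ₗ f) := LinearMap.ext fun x => by
    obtain ⟨a, b, hab, -⟩ := Submodule.existsUnique_add_of_isCompl hC (f x)
    simp only [LinearMap.add_apply, LinearMap.comp_apply, ← hab, map_add,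
      Submodule.projectionOnto_apply_left, Submodule.projectionOnto_apply_right]
    simp
  conv_lhs => rw [hsplit]
  rw [map_add, LinearMap.trace_comp_comm' (W.projectionOnto C hC ∘ₗ f) W.subtype,
    LinearMap.trace_comp_comm' (C.projectionOnto W hC.symm ∘ₗ f) C.subtype]
  congr 1
  · refine congrArg (LinearMap.trace k W) (LinearMap.ext fun x => ?_)
    rw [LinearMap.comp_apply, LinearMap.comp_apply, Submodule.subtype_apply,
      Submodule.projectionOnto_apply_of_mem_left hC (hW x x.2)]
    rfl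
  · let e : C ≃ₗ[k] Q := LinearEquiv.ofBijective (q ∘ₗ C.subtype) ⟨by
      rw [← LinearMap.ker_eq_bot, LinearMap.ker_eq_bot']
      intro x hx
      have h1 : (x : V) ∈ W := hker ▸ LinearMap.mem_ker.2 hx
      exact Subtype.ext ((Submodule.disjoint_def.1 hC.disjoint) _ h1 x.2), by
      intro y
      obtain ⟨x, rfl⟩ := hq y
      obtain ⟨a, b, hab, -⟩ := Submodule.existsUnique_add_of_isCompl hC x
      refine ⟨b, ?_⟩
      have ha : q a = 0 := LinearMap.mem_ker.1 (hker.symm ▸ a.2)
      rw [LinearMap.comp_apply, Submodule.subtype_apply, ← hab, map_add, ha, zero_add]⟩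
    rw [← LinearMap.trace_conj' ((C.projectionOnto W hC.symm ∘ₗ f) ∘ₗ C.subtype) e]
    refine congrArg (LinearMap.trace k Q) (LinearMap.ext fun y => ?_)
    obtain ⟨b, rfl⟩ := e.surjective y
    rw [LinearEquiv.conj_apply_apply, e.symm_apply_apply]
    show q (C.projectionOnto W hC.symm (f b) : V) = g (q b)
    obtain ⟨a, c, hac, -⟩ := Submodule.existsUnique_add_of_isCompl hC (f b)
    have ha : q a = 0 := LinearMap.mem_ker.1 (hker.symm ▸ a.2)
    rw [hg, ← hac, map_add, map_add, Submodule.projectionOnto_apply_right,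
      Submodule.projectionOnto_apply_left, zero_add, ha, zero_add]

variable {p : ℕ} [hp : Fact p.Prime] {k : Type v} [Field k] [CharP k p]
  {G : Type u} [Group G] [Finite G] {α : Type u} [Fintype α] [MulAction G α] [FaithfulSMul G α]
  [MulAction.IsPretransitive G α]
  {V : Type w} [AddCommGroup V] [Module k V] [FiniteDimensional k V] {ρ : G →* Module.End k V}

/-- A small nontrivial quotient from a functional and a vector with `φ y ≠ 0`. -/
theorem card_sylow_le_of_top [IsSimpleGroup G] (hp7 : 7 ≤ p) {g : G} (hg : orderOf g = p)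
    (P : Sylow p G) (hP : (P : Subgroup G) = Subgroup.zpowers g) (hsq : ¬ p ^ 2 ∣ Nat.card G)
    (hns : ¬ Group.IsSolvable G) (e : ZMod p ≃ α) (he : ∀ (n : ℕ) (j : ZMod p), g ^ n • e j = e (j + n))
    {s : G} {b r : ZMod p} (hs : ∀ i, s • e i = e (b + r * i)) (hr : r ≠ 0) (hr1 : r ≠ 1)
    (hd : finrank k V = p + 1) (htr : LinearMap.trace k V (ρ s) = cst k r + (cst k r)⁻¹)
    (φ : V →ₗ[k] k) (hφ : Scales ρ g e φ) {y : V} (hy : ((ρ g - 1) ^ (p - 2)) y = 0) (hφy : φ y ≠ 0) :
    Nat.card (Sylow p G) ≤ p + 1 := by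
  have hcard : Nat.card α = p := by rw [← Nat.card_congr e, Nat.card_zmod]
  obtain ⟨T, hTeq, hT1, τ, hτ, hTτ⟩ := exists_heart_map hg hsq e he φ hφ hy hφy
  have hπ : ∀ (a : G) (w : α → k) (x : α), Cfsg.permRep k G α a w x = w (a⁻¹ • x) := fun _ _ _ => rfl
  obtain ⟨S, hS⟩ : ∃ S : Submodule k (α → k), S = (Cfsg.permSumZero k G α).toSubmodule := ⟨_, rfl⟩
  have hmemS : ∀ w, w ∈ S ↔ ∑ x, w x = 0 := fun w => by rw [hS]; rfl
  obtain ⟨one, hone⟩ : ∃ one : α → k, one = fun _ => 1 := ⟨_, rfl⟩
  have honeS : one ∈ S := by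
    rw [hmemS, hone, sum_const, card_univ, ← Nat.card_eq_fintype_card, hcard, nsmul_one,
      CharP.cast_eq_zero]
  -- the kernel of `T` on the sum-zero functions
  let K : Subrepresentation (Cfsg.permRep k G α) :=
    { toSubmodule := S ⊓ LinearMap.ker T
      apply_mem_toSubmodule := fun a w hw => by
        have hw0 := (hmemS w).1 hw.1
        refine ⟨?_, ?_⟩
        · rw [hS] at hw ⊢
          exact (Cfsg.permSumZero k G α).apply_mem_toSubmodule a hw.1
        · show T (Cfsg.permRep k G α a w) = 0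
          rw [hTeq a w hw0, LinearMap.mem_ker.1 hw.2, map_zero] }
  have hK : K = Cfsg.permConstants k G α := by
    refine (CfsgLib.PrimeDegree.heart_irreducible hcard hns K ?_ ?_).resolve_right fun h => hTτ ?_
    · show Submodule.span k {fun _ => (1 : k)} ≤ S ⊓ LinearMap.ker T
      rw [Submodule.span_le, Set.singleton_subset_iff]
      exact ⟨hone ▸ honeS, LinearMap.mem_ker.2 hT1⟩
    · exact fun w hw => hS ▸ hw.1
    · have h1 : τ ∈ K.toSubmodule := by rw [h, ← hS]; exact (hmemS τ).2 hτ
      rw [LinearMap.mem_ker.1 h1.2, map_zero]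
  have hker : S ⊓ LinearMap.ker T = Submodule.span k {one} := by
    rw [hone]; exact congrArg Subrepresentation.toSubmodule hK
  -- dimensions
  obtain ⟨σ, hσ⟩ : ∃ σ : (α → k) →ₗ[k] k, ∀ w, σ w = ∑ x, w x :=
    ⟨∑ x, LinearMap.proj x, fun w => by simp⟩
  have hσsurj : Function.Surjective σ := fun c => ⟨Pi.single (e 0) c, by simp [hσ]⟩
  have hσker : LinearMap.ker σ = S := by ext w; rw [LinearMap.mem_ker, hσ, hmemS]
  have hdimS : finrank k S = p - 1 := by
    have h := LinearMap.finrank_range_add_finrank_ker σ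
    rw [LinearMap.range_eq_top.2 hσsurj, finrank_top, finrank_self, hσker, finrank_pi,
      ← Nat.card_eq_fintype_card, hcard] at h
    omega
  obtain ⟨W, hW⟩ : ∃ W : Submodule k V, W = S.map T := ⟨_, rfl⟩
  obtain ⟨TS, hTS⟩ : ∃ TS : S →ₗ[k] W, ∀ w : S, (TS w : V) = T w :=
    ⟨(T.domRestrict S).codRestrict W fun w => hW ▸ ⟨w, w.2, rfl⟩, fun w => rfl⟩
  have hTSsurj : Function.Surjective TS := by
    rintro ⟨x, hx⟩
    rw [hW] at hx
    obtain ⟨w, hw, rfl⟩ := hx
    exact ⟨⟨w, hw⟩, Subtype.ext (hTS _)⟩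
  obtain ⟨K₀, hK₀⟩ : ∃ K₀ : Submodule k S, K₀ = Submodule.span k {⟨one, honeS⟩} := ⟨_, rfl⟩
  have hTSker : LinearMap.ker TS = K₀ := by
    rw [hK₀]
    ext w
    rw [LinearMap.mem_ker, Submodule.mem_span_singleton]
    constructor
    · intro h0
      have h1 : (w : α → k) ∈ S ⊓ LinearMap.ker T :=
        ⟨w.2, LinearMap.mem_ker.2 (by rw [← hTS, h0]; rfl)⟩
      rw [hker, Submodule.mem_span_singleton] at h1
      obtain ⟨c, hc⟩ := h1
      exact ⟨c, Subtype.ext hc⟩
    · rintro ⟨c, rfl⟩
      refine Subtype.ext ?_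
      rw [hTS, Submodule.coe_smul, map_smul]
      show c • T one = 0
      rw [hone, hT1, smul_zero]
  have hone0 : (⟨one, honeS⟩ : S) ≠ 0 := fun h => by
    have h' : one (e 0) = 0 := congrFun (congrArg Subtype.val h) (e 0)
    rw [hone] at h'
    exact one_ne_zero h'
  have hdimW : finrank k W = p - 2 := by
    have h := LinearMap.finrank_range_add_finrank_ker TS
    rw [LinearMap.range_eq_top.2 hTSsurj, finrank_top, hTSker, hK₀, finrank_span_singleton hone0,
      hdimS] at h
    omega
  have hdimQ : finrank k (V ⧸ W) = 3 := by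
    rw [Submodule.finrank_quotient, hd, hdimW]
    omega
  have hWinv : ∀ a : G, ∀ x ∈ W, ρ a x ∈ W := by
    intro a x hx
    rw [hW] at hx ⊢
    obtain ⟨w, hw, rfl⟩ := hx
    refine ⟨Cfsg.permRep k G α a w, ?_, hTeq a w ((hmemS w).1 hw)⟩
    rw [hS] at hw ⊢
    exact (Cfsg.permSumZero k G α).apply_mem_toSubmodule a hw
  let ρQ : G →* Module.End k (V ⧸ W) :=
    { toFun := fun a => W.mapQ W (ρ a) fun x hx => hWinv a x hx
      map_one' := Submodule.linearMap_qext _ (LinearMap.ext fun x => by simp)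
      map_mul' := fun a c => Submodule.linearMap_qext _ (LinearMap.ext fun x => by simp) }
  have hρQ : ∀ a x, ρQ a (Submodule.Quotient.mk x) = Submodule.Quotient.mk (ρ a x) := fun _ _ => rfl
  have hUp : (ρQ g - 1) ^ 3 = 0 := by
    have hnil : IsNilpotent (ρQ g - 1) := ⟨p, by
      rw [sub_one_pow_p k, ← map_pow, ← hg, pow_orderOf_eq_one, map_one, sub_self]⟩
    have h := LinearMap.aeval_self_charpoly (ρQ g - 1)
    rwa [IsNilpotent.charpoly_eq_X_pow_finrank hnil, map_pow, Polynomial.aeval_X, hdimQ] at h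
  refine CfsgLib.GreenThree.card_sylow_le_of_field hp7 hg P hP ?_ ρQ hUp (by omega) ?_
  · intro N hN hgN z hz
    rcases hN.eq_bot_or_eq_top with h | h
    · rw [h, Subgroup.mem_bot] at hz; rw [hz]; exact Commute.one_right g
    · exact absurd (h ▸ Subgroup.mem_top g) hgN
  · intro hgQ
    -- the quotient would be trivial
    haveI : ρQ.ker.Normal := MonoidHom.normal_ker ρQ
    have hgne : g ≠ 1 := fun h => by rw [h, orderOf_one] at hg; omega
    have htop : ρQ.ker = ⊤ :=
      (Subgroup.Normal.eq_bot_or_eq_top (inferInstance : ρQ.ker.Normal)).resolve_left fun h =>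
        hgne ((Subgroup.eq_bot_iff_forall _).1 h g hgQ)
    have hsQ : ρQ s = 1 := MonoidHom.mem_ker.1 (htop ▸ Subgroup.mem_top s)
    -- the trace of `s` on the permutation module
    obtain ⟨π, hπdef⟩ : ∃ π, π = Cfsg.permRep k G α s := ⟨_, rfl⟩
    have hr1' : r - 1 ≠ 0 := sub_ne_zero.2 hr1
    have hperm : LinearMap.trace k (α → k) π = 1 := by
      rw [LinearMap.trace_eq_matrix_trace k (Pi.basisFun k α), Matrix.trace]
      have hdiag : ∀ x : α, (LinearMap.toMatrix (Pi.basisFun k α) (Pi.basisFun k α) π).diag x =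
          if x = e (-b / (r - 1)) then 1 else 0 := by
        intro x
        rw [Matrix.diag_apply, LinearMap.toMatrix_apply, Pi.basisFun_apply, Pi.basisFun_repr, hπdef,
          hπ, Pi.single_apply]
        refine if_congr ?_ rfl rfl
        rw [inv_smul_eq_iff]
        obtain ⟨i, rfl⟩ := e.surjective x
        rw [hs, e.injective.eq_iff, e.injective.eq_iff, eq_div_iff hr1']
        constructor <;> intro h <;> linear_combination -h
      rw [sum_congr rfl fun x _ => hdiag x, sum_ite_eq', if_pos (mem_univ _)]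
    have hπS : ∀ x ∈ S, π x ∈ S := fun x hx => by
      rw [hπdef, hS] at *
      exact (Cfsg.permSumZero k G α).apply_mem_toSubmodule s hx
    have h1 := trace_eq_add π S hπS σ hσsurj hσker LinearMap.id fun x => by
      rw [LinearMap.id_apply, hσ, hσ, hπdef]
      exact Fintype.sum_equiv (MulAction.toPerm s) _ _ fun y => by
        rw [MulAction.toPerm_apply, hπ, inv_smul_smul]
    rw [hperm, LinearMap.trace_id, finrank_self, Nat.cast_one, eq_comm, add_eq_right] at h1
    have hK₀inv : ∀ x ∈ K₀, π.restrict hπS x ∈ K₀ := by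
      intro x hx
      rw [hK₀, Submodule.mem_span_singleton] at hx ⊢
      obtain ⟨c, rfl⟩ := hx
      refine ⟨c, Subtype.ext ?_⟩
      show c • one = π (c • one)
      rw [map_smul, hπdef, hone]
      rfl
    have hπ1 : (π.restrict hπS).restrict hK₀inv = 1 := LinearMap.ext fun x => Subtype.ext (Subtype.ext (by
      obtain ⟨c, hc⟩ := Submodule.mem_span_singleton.1
        (show (x : S) ∈ Submodule.span k {(⟨one, honeS⟩ : S)} by rw [← hK₀]; exact x.2)
      show π ((x : S) : α → k) = ((x : S) : α → k)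
      rw [← hc, Submodule.coe_smul, map_smul]
      show c • π one = c • one
      rw [hπdef, hone]
      rfl))
    have hρW : ∀ x ∈ W, ρ s x ∈ W := hWinv s
    have h2 := trace_eq_add (π.restrict hπS) K₀ hK₀inv TS hTSsurj hTSker ((ρ s).restrict hρW)
      fun x => Subtype.ext (by
        rw [LinearMap.coe_restrict_apply, hTS, hTS, LinearMap.coe_restrict_apply, hπdef,
          hTeq s x ((hmemS _).1 x.2)])
    have htK : LinearMap.trace k K₀ (1 : Module.End k K₀) = 1 := by
      haveI : Module.Free k K₀ := Module.Free.of_basis (Basis.ofVectorSpace k K₀)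
      haveI : Module.Finite k K₀ := inferInstanceAs (FiniteDimensional k K₀)
      refine (LinearMap.trace_one k K₀).trans ?_
      rw [hK₀, finrank_span_singleton hone0, Nat.cast_one]
    rw [h1, hπ1] at h2
    replace h2 := h2.trans (congrArg (· + LinearMap.trace k W ((ρ s).restrict hρW)) htK)
    have h3 := trace_eq_add (ρ s) W hρW W.mkQ W.mkQ_surjective W.ker_mkQ (ρQ s) fun x => hρQ s x
    rw [hsQ, LinearMap.trace_one, hdimQ, htr] at h3
    have hc0 : cst k r ≠ 0 := (map_ne_zero _).2 hr
    have h4 : (cst k r - 1) ^ 2 = 0 := by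
      have e1 : cst k r + (cst k r)⁻¹ = 2 := by push_cast at h3; linear_combination h3 - h2
      field_simp at e1
      linear_combination e1
    exact hr1 ((ZMod.castHom (dvd_refl p) k).injective
      ((sub_eq_zero.1 (pow_eq_zero_iff two_ne_zero |>.1 h4)).trans (map_one _).symm))

/-- **The Sylow count from a weight vector and a weight functional.** -/
theorem card_sylow_le_of_eigen [IsSimpleGroup G] (hp7 : 7 ≤ p) {g : G} (hg : orderOf g = p)
    (P : Sylow p G) (hP : (P : Subgroup G) = Subgroup.zpowers g) (hsq : ¬ p ^ 2 ∣ Nat.card G)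
    (hns : ¬ Group.IsSolvable G) (e : ZMod p ≃ α) (he : ∀ (n : ℕ) (j : ZMod p), g ^ n • e j = e (j + n))
    {s : G} (hsN : s ∈ Subgroup.normalizer (Subgroup.zpowers g : Set G)) {b r : ZMod p}
    (hs : ∀ i, s • e i = e (b + r * i)) (hr : r ≠ 0) (hr2 : r ^ 2 ≠ 1)
    (hd : finrank k V = p + 1)
    (htr : LinearMap.trace k V (ρ s) = cst k r + (cst k r)⁻¹)
    (htr' : LinearMap.trace k V (ρ s⁻¹) = cst k r + (cst k r)⁻¹)
    {v : V} (hv0 : v ≠ 0)
    (hv : ∀ n ∈ Subgroup.normalizer (Subgroup.zpowers g : Set G), ∀ b r : ZMod p,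
      (∀ i, n • e i = e (b + r * i)) → ρ n v = (cst k r)⁻¹ • v)
    (φ : V →ₗ[k] k) (hφ0 : φ ≠ 0) (hφ : Scales ρ g e φ) :
    Nat.card (Sylow p G) ≤ p + 1 := by
  have hr1 : r ≠ 1 := fun h => hr2 (by rw [h, one_pow])
  have hgN : g ∈ Subgroup.normalizer (Subgroup.zpowers g : Set G) :=
    Subgroup.le_normalizer (Subgroup.mem_zpowers g)
  have hg1 : ∀ i, g • e i = e (1 + 1 * i) := fun i => by
    have := he 1 i
    rw [pow_one, Nat.cast_one] at this
    rw [this, one_mul, add_comm]
  have hgv : ρ g v = v := by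
    rw [hv g hgN 1 1 hg1, cst, map_one, inv_one, one_smul]
  have hφg : ∀ x, φ (ρ g x) = φ x := fun x => by
    rw [hφ g hgN 1 1 hg1 x, cst, map_one, one_mul]
  obtain ⟨U, hU⟩ : ∃ U, U = ρ g - 1 := ⟨_, rfl⟩
  have hUp : U ^ p = 0 := by
    rw [hU, sub_one_pow_p k, ← map_pow, ← hg, pow_orderOf_eq_one, map_one, sub_self]
  -- the conjugate of `g` by `s`
  have hconj : s * g = g ^ r.val * s := by
    refine eq_of_smul_eq_smul (α := α) fun x => ?_
    obtain ⟨i, rfl⟩ := e.surjective x
    rw [mul_smul, mul_smul, hs, hg1, hs, he, ZMod.natCast_zmod_val]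
    ring_nf
  obtain ⟨S, hS⟩ : ∃ S, S = ∑ l ∈ range r.val, ρ g ^ l := ⟨_, rfl⟩
  have hUS : U * S = ρ g ^ r.val - 1 := by rw [hU, hS, mul_geom_sum]
  have hSc : S = cst k r • 1 + U * ∑ l ∈ range r.val, ∑ j ∈ range l, ρ g ^ j := by
    rw [mul_sum, hU]
    simp only [mul_geom_sum, sum_sub_distrib, sum_const, card_range]
    rw [cst, ZMod.castHom_apply, ZMod.cast_eq_val, Nat.cast_smul_eq_nsmul, hS]
    abel
  have hcomm : Commute U S := by
    rw [hU, hS]
    exact Commute.sum_right _ _ _ fun l _ =>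
      ((Commute.refl (ρ g)).sub_left (Commute.one_left _)).pow_right l
  have hNU : ρ s * U = U * S * ρ s := by
    rw [hUS, hU, mul_sub, sub_mul, mul_one, one_mul, ← map_mul, hconj, map_mul, map_pow]
  have hh : cst k r ^ (p - 1) = 1 := by
    rw [cst, ← map_pow, ZMod.pow_card_sub_one_eq_one hr, map_one]
  have hh2 : cst k r ^ 2 ≠ 1 := fun h => hr2 ((ZMod.castHom (dvd_refl p) k).injective (by
    rw [map_pow, map_one]; exact h))
  rcases not_both hp7 hd.le hUp hSc hcomm hNU hh hh2 hv0
      (by rw [hU, LinearMap.sub_apply, hgv, Module.End.one_apply, sub_self]) (hv s hsN b r hs) φ hφ0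
      (fun x => by rw [hU, LinearMap.sub_apply, map_sub, hφg, Module.End.one_apply, sub_self])
      (fun x => hφ s hsN b r hs x) with ⟨y, hy, hφy⟩ | hvR
  · exact card_sylow_le_of_top hp7 hg P hP hsq hns e he hs hr hr1 hd htr φ hφ (hU ▸ hy) hφy
  · -- the dual module
    let ρd : G →* Module.End k (Module.Dual k V) :=
      { toFun := fun a => (ρ a⁻¹).dualMap
        map_one' := LinearMap.ext fun f => LinearMap.ext fun x => by simp
        map_mul' := fun a c => LinearMap.ext fun f => LinearMap.ext fun x => by simp [mul_inv_rev] }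
    have hρd : ∀ a f x, ρd a f x = f (ρ a⁻¹ x) := fun _ _ _ => rfl
    obtain ⟨ψ, hψ, hψR⟩ := Submodule.exists_dual_map_eq_bot_of_notMem hvR inferInstance
    have hψ0 : ∀ x, ψ ((U ^ (p - 2)) x) = 0 := fun x => by
      have := (Submodule.eq_bot_iff _).1 hψR (ψ ((U ^ (p - 2)) x)) ⟨_, ⟨x, rfl⟩, rfl⟩
      exact this
    have hev : Scales ρd g e (Module.Dual.eval k V v) := by
      intro n hn b' r' hn' f
      rw [Module.Dual.eval_apply, Module.Dual.eval_apply, hρd]
      have h1 := hv n hn b' r' hn'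
      have hr' : cst k r' ≠ 0 := by
        intro h0
        rw [h0, inv_zero, zero_smul] at h1
        have := congrArg (ρ n⁻¹) h1
        rw [← Module.End.mul_apply, ← map_mul, inv_mul_cancel, map_one, Module.End.one_apply, map_zero]
          at this
        exact hv0 this
      have h2 := congrArg (ρ n⁻¹) h1
      rw [← Module.End.mul_apply, ← map_mul, inv_mul_cancel, map_one, Module.End.one_apply, map_smul]
        at h2
      conv_rhs => rw [h2, map_smul, smul_eq_mul, ← mul_assoc, mul_inv_cancel₀ hr', one_mul]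
    have htrd : LinearMap.trace k (Module.Dual k V) (ρd s) = cst k r + (cst k r)⁻¹ := by
      rw [← htr']
      exact LinearMap.trace_transpose' (ρ s⁻¹)
    refine card_sylow_le_of_top (ρ := ρd) hp7 hg P hP hsq hns e he hs hr hr1
      (by rw [Subspace.dual_finrank_eq, hd]) htrd _ hev (y := ψ) ?_ (by simpa using hψ)
    have hpow : ∀ (j : ℕ) (f : Module.Dual k V) (x : V),
        ((ρd g - 1) ^ j) f x = f (((ρ g⁻¹ - 1) ^ j) x) := by
      intro j
      induction j with
      | zero => intro f x; simp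
      | succ j ih =>
        intro f x
        rw [pow_succ, Module.End.mul_apply, ih, pow_succ', Module.End.mul_apply,
          LinearMap.sub_apply, LinearMap.sub_apply, hρd, Module.End.one_apply,
          LinearMap.sub_apply, map_sub]
        rfl
    have hinv : ρ g⁻¹ - 1 = U * (-ρ g⁻¹) := by
      rw [hU, sub_mul, one_mul, mul_neg, ← map_mul, mul_inv_cancel, map_one]
      abel
    have hcomm' : Commute U (-ρ g⁻¹) := by
      rw [hU]
      exact (((Commute.refl g).inv_right.map ρ).sub_left (Commute.one_left _)).neg_right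
    refine LinearMap.ext fun x => ?_
    rw [hpow, hinv, hcomm'.mul_pow, Module.End.mul_apply, hψ0, LinearMap.zero_apply]

end CfsgLib.PrimeDegTI
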