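import Cfsg.Agent.PrimeDegTI.OddChar
import Cfsg.Agent.PrimeDegTI.Lattice
import Cfsg.Agent.PrimeDegTI.ThreeDim
import Cfsg.Agent.PrimeDegTI.Exceptional
import Cfsg.Agent.BrauerPrime.Main

/-!
# Odd `|E|`: weight vectors of the character of degree `p + 1` bound the number of Sylow subgroups
-/

set_option autoImplicit false
set_option linter.unusedSectionVars false
set_option linter.style.haveILetI false

namespace CfsgLib.PrimeDegTI

open Subgroup MulAction CfsgLib.Char
open scoped Classical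

universe u

variable {p : ℕ} [hp : Fact p.Prime] {G : Type u} [Group G] [Fintype G] {α : Type u}
  [MulAction G α] [FaithfulSMul G α] [MulAction.IsPretransitive G α]
variable {P : Sylow p G} {E : Subgroup G}

theorem Hyp.odd_case (H : Hyp α P E) (hodd : Odd (Nat.card E)) :
    (p = 5 ∨ p = 7 ∨ p = 11) ∧ ∃ (F : Type) (_ : Field F) (_ : Fintype F), Fintype.card F = p ∧
      Nonempty (G ≃* Matrix.ProjectiveSpecialLinearGroup (Fin 2) F) := by
  classical
  haveI := finite_of_card (α := α) H.hcard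
  haveI : Fintype α := Fintype.ofFinite α
  haveI := H.isSimple
  have hE3 : 3 ≤ Nat.card E := by
    obtain ⟨k, hk⟩ := hodd
    have := H.two_le_card_E
    omega
  have hp7 : 7 ≤ p := by
    have h5 := H.five_le
    obtain ⟨k, hk⟩ := H.card_E_dvd
    obtain ⟨j, hj⟩ := hodd
    have h6 : p ≠ 6 := fun h => by rw [h] at hp; exact absurd hp.out (by norm_num)
    by_contra hlt
    have hp5 : p = 5 := by omega
    subst hp5
    have := Nat.le_of_dvd (by norm_num) ⟨k, hk⟩
    rcases (show Nat.card E = 3 ∨ Nat.card E = 4 by omega) with e | e <;> rw [e] at hk <;> omega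
  obtain ⟨g, hg, hP⟩ := CfsgLib.PrimeDegree.exists_sylow_generator H.hcard P
  obtain ⟨e, he⟩ := CfsgLib.PrimeDegree.exists_chart H.hcard hg
  obtain ⟨m, hm, hker⟩ := exists_mult H.hcard hg he
  have hEN : E ≤ normalizer (zpowers g : Set G) := hP ▸ H.E_le
  have huniq : ∀ (n : normalizer (zpowers g : Set G)) (b r : ZMod p),
      (∀ i, (n : G) • e i = e (b + r * i)) → r = (m n : ZMod p) := by
    intro n b r h
    obtain ⟨b', hb'⟩ := hm n
    have h0 := e.injective ((h 0).symm.trans (hb' 0))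
    have h1 := e.injective ((h 1).symm.trans (hb' 1))
    linear_combination h1 - h0
  -- `m` is injective on `E`
  have hinj : ∀ x : E, m (inclusion hEN x) = 1 → x = 1 := fun x hx => by
    have h2 : (x : G) ∈ (P : Subgroup G) ⊓ E := ⟨by rw [hP]; simpa using (hker _).1 hx, x.2⟩
    rw [H.hPE', mem_bot, OneMemClass.coe_eq_one] at h2
    exact h2
  -- the lift
  obtain ⟨A, hA⟩ := CfsgLib.GreenThree.exists_valuationSubring p
  obtain ⟨L, hL⟩ := exists_units_lift (p := p) A
  obtain ⟨μ, hμ⟩ : ∃ μ : normalizer (zpowers g : Set G) →* Aˣ, μ = L.comp m := ⟨_, rfl⟩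
  have hμres : ∀ n, IsLocalRing.residue A ((μ n : Aˣ) : A) =
      cst (IsLocalRing.ResidueField A) (m n : ZMod p) := fun n => by
    rw [hμ, MonoidHom.comp_apply, hL]
  obtain ⟨μC, hμC⟩ : ∃ μC : normalizer (zpowers g : Set G) →* ℂˣ,
      μC = (Units.map (A.subtype : A →* ℂ)).comp μ := ⟨_, rfl⟩
  have hμC' : ∀ n, ((μC n : ℂˣ) : ℂ) = (((μ n : Aˣ) : A) : ℂ) := fun n => by rw [hμC]; rfl
  have hμinj : ∀ x : E, μ (inclusion hEN x) = 1 → x = 1 := fun x hx => hinj x (Units.ext (by
    have h := hμres (inclusion hEN x)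
    rw [hx, Units.val_one, map_one, cst] at h
    exact (ZMod.castHom (dvd_refl p) (IsLocalRing.ResidueField A)).injective (by
      rw [Units.val_one, map_one]; exact h.symm)))
  obtain ⟨a, ha⟩ : ∃ a : E →* ℂˣ, a = μC.comp (inclusion hEN) := ⟨_, rfl⟩
  obtain ⟨y, hy⟩ : ∃ y : E, y ≠ 1 := by
    haveI : Nontrivial E := Finite.one_lt_card_iff_nontrivial.1 (by omega)
    exact exists_ne 1
  have ha1 : a ≠ 1 := fun h => by
    refine hy (hμinj y (Units.ext (Subtype.ext ?_)))
    have h1 : ((a y : ℂˣ) : ℂ) = 1 := by rw [h]; rfl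
    rw [ha, MonoidHom.comp_apply, hμC'] at h1
    rw [h1]; rfl
  obtain ⟨X, hX, hX1, hXE, hXP⟩ := H.exists_chi hodd a ha1
  obtain ⟨d, σ, hσ, rfl⟩ := hX
  have hd : d = p + 1 := by
    rw [Representation.char_one, Module.finrank_fin_fun] at hX1
    exact_mod_cast hX1
  have hcl : Cfsg.IsClassFunction G σ.character :=
    IsGeneralized.isClassFunction (IsIrrCharacter.isGeneralized ⟨d, σ, hσ, rfl⟩)
  -- the values on the normalizer
  have hval : ∀ n : normalizer (zpowers g : Set G),
      σ.character n = (μC n : ℂ) + μC n⁻¹ +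
        if (n : G) ∈ zpowers g then (if (n : G) = 1 then (p : ℂ) - 1 else -1) else 0 := by
    intro n
    by_cases hn : (n : G) ∈ zpowers g
    · have h1 : μC n = 1 := by
        rw [hμC, hμ, MonoidHom.comp_apply, MonoidHom.comp_apply, (hker n).2 hn, map_one, map_one]
      rw [if_pos hn, map_inv, h1, inv_one, Units.val_one]
      by_cases hn1 : (n : G) = 1
      · rw [if_pos hn1, hn1, hX1]; ring
      · rw [if_neg hn1, hXP _ ?_]
        · ring
        · exact CfsgLib.BrauerPrime.orderOf_eq H.setup (by rw [hP]; exact hn) hn1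
    · rw [if_neg hn, add_zero]
      -- `n` has a conjugate in `E`
      obtain ⟨y', hy'E, hy'⟩ : ∃ y' : normalizer (zpowers g : Set G), (y' : G) ∈ E ∧ m y' = m n := by
        have hx : (n : G) ∈ (↑((P : Subgroup G) ⊔ E) : Set G) := by
          rw [H.hPE, hP]; exact n.2
        rw [coe_mul_of_right_le_normalizer_left _ _ H.E_le] at hx
        obtain ⟨u, hu, w, hw, huw⟩ := hx
        refine ⟨⟨w, hEN hw⟩, hw, ?_⟩
        have hu' : u ∈ zpowers g := hP ▸ hu
        have h1 : n = (⟨u, le_normalizer hu'⟩ : normalizer (zpowers g : Set G)) * ⟨w, hEN hw⟩ :=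
          Subtype.ext huw.symm
        rw [h1, map_mul, (hker ⟨u, le_normalizer hu'⟩).2 hu', one_mul]
      obtain ⟨b, hb⟩ := hm n
      obtain ⟨c, hc⟩ := hm y'
      rw [hy'] at hc
      have hr1 : (m n : ZMod p) - 1 ≠ 0 := sub_ne_zero.2 fun h => hn ((hker n).1 (Units.ext (by simpa using h)))
      obtain ⟨k, hk⟩ : ∃ k : ZMod p, k * (1 - (m n : ZMod p)) = b - c :=
        ⟨(b - c) / (1 - (m n : ZMod p)), div_mul_cancel₀ _ (fun h => hr1 (by linear_combination -h))⟩
      have hconj : (n : G) = g ^ k.val * y' * (g ^ k.val)⁻¹ := by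
        rw [eq_mul_inv_iff_mul_eq]
        refine eq_of_smul_eq_smul (α := α) fun x => ?_
        obtain ⟨i, rfl⟩ := e.surjective x
        rw [mul_smul, mul_smul, he, hb, hc, he, ZMod.natCast_zmod_val]
        congr 1
        linear_combination -hk
      have hyne : (⟨y', hy'E⟩ : E) ≠ 1 := fun h => by
        have h0 : (y' : G) = 1 := by have := congrArg (Subtype.val : E → G) h; simpa using this
        have h' : y' = 1 := Subtype.ext h0
        rw [h', map_one] at hy'
        exact hn ((hker n).1 hy'.symm)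
      rw [hconj, hcl, show (y' : G) = ((⟨y', hy'E⟩ : E) : G) from rfl, hXE _ hyne, ha]
      simp only [MonoidHom.comp_apply]
      rw [show inclusion hEN (⟨y', hy'E⟩ : E) = y' from rfl,
        show inclusion hEN (⟨y', hy'E⟩ : E)⁻¹ = y'⁻¹ from rfl, hμC, hμ]
      simp only [MonoidHom.comp_apply, map_inv, hy']
  have hcorr : ∀ ν : normalizer (zpowers g : Set G) →* ℂˣ,
      (∀ n : normalizer (zpowers g : Set G), (n : G) ∈ zpowers g → ν n = 1) →
      ∑ n : normalizer (zpowers g : Set G), (ν n : ℂ) *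
        (if (n : G) ∈ zpowers g then (if (n : G) = 1 then (p : ℂ) - 1 else -1) else 0) = 0 := by
    intro ν hν
    have h1 : ∀ n : normalizer (zpowers g : Set G), (ν n : ℂ) *
        (if (n : G) ∈ zpowers g then (if (n : G) = 1 then (p : ℂ) - 1 else -1) else 0) =
        (if n = 1 then (p : ℂ) else 0) - if (n : G) ∈ zpowers g then 1 else 0 := fun n => by
      by_cases hn : (n : G) ∈ zpowers g
      · rw [hν n hn, Units.val_one, one_mul, if_pos hn, if_pos hn]
        by_cases hn1 : n = 1
        · rw [if_pos hn1, if_pos (show (n : G) = 1 by rw [hn1]; rfl)]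
        · rw [if_neg hn1, if_neg (fun h : (n : G) = 1 => hn1 (Subtype.ext h)), zero_sub]
      · rw [if_neg hn, if_neg hn, if_neg (fun h => hn (by rw [h]; exact one_mem _)), mul_zero, sub_zero]
    rw [Finset.sum_congr rfl fun n _ => h1 n, Finset.sum_sub_distrib, Finset.sum_ite_eq',
      if_pos (Finset.mem_univ _), Finset.sum_boole, sub_eq_zero]
    have h2 : (Finset.univ.filter fun n : normalizer (zpowers g : Set G) => (n : G) ∈ zpowers g).card = p := by
      rw [← Fintype.card_subtype, ← Nat.card_eq_fintype_card]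
      refine (Nat.card_congr (subgroupOfEquivOfLe (le_normalizer (H := zpowers g))).toEquiv).trans ?_
      rw [Nat.card_zpowers, hg]
    exact_mod_cast h2.symm
  have hnz : ∀ ν : normalizer (zpowers g : Set G) →* ℂˣ, (ν = μC ∨ ν = μC⁻¹) →
      ∑ n : normalizer (zpowers g : Set G), (ν n : ℂ) * σ.character n ≠ 0 := by
    intro ν hν
    have hν1 : ∀ n : normalizer (zpowers g : Set G), (n : G) ∈ zpowers g → ν n = 1 := fun n hn => by
      have h1 : μC n = 1 := by
        rw [hμC, hμ, MonoidHom.comp_apply, MonoidHom.comp_apply, (hker n).2 hn, map_one, map_one]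
      rcases hν with rfl | rfl
      · exact h1
      · rw [MonoidHom.inv_apply, h1, inv_one]
    have hk : (Nat.card (normalizer (zpowers g : Set G)) : ℂ) ≠ 0 := by
      exact_mod_cast (Nat.card_pos (α := normalizer (zpowers g : Set G))).ne'
    simp only [hval, mul_add, Finset.sum_add_distrib, hcorr ν hν1, add_zero]
    have e1 : ∀ n, ((ν n : ℂˣ) : ℂ) * (μC n : ℂ) = ((ν * μC) n : ℂ) := fun n => rfl
    have e2 : ∀ n, ((ν n : ℂˣ) : ℂ) * (μC n⁻¹ : ℂ) = ((ν * μC⁻¹) n : ℂ) := fun n => by
      rw [MonoidHom.mul_apply, MonoidHom.inv_apply, Units.val_mul, map_inv]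
    simp only [e1, e2, CfsgLib.Wall.sum_hom]
    rcases hν with rfl | rfl
    · rw [if_pos (show ν * ν⁻¹ = 1 from MonoidHom.ext fun n => mul_inv_cancel (ν n))]
      split_ifs
      · exact fun h => hk (by linear_combination h / 2)
      · rw [zero_add]; exact hk
    · rw [if_pos (show μC⁻¹ * μC = 1 from MonoidHom.ext fun n => inv_mul_cancel (μC n))]
      split_ifs
      · exact fun h => hk (by linear_combination h / 2)
      · rw [add_zero]; exact hk
  obtain ⟨ρ, v, φ, hv0, hφ0, hv, hφ, htr⟩ := exists_weight_model A σ (normalizer (zpowers g : Set G)) μ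
    (by
      refine fun h => hnz μC⁻¹ (Or.inr rfl) (Eq.trans (Finset.sum_congr rfl fun n _ => ?_) h)
      rw [← hμC', MonoidHom.inv_apply, map_inv]; rfl)
    (by
      refine fun h => hnz μC (Or.inl rfl) (Eq.trans (Finset.sum_congr rfl fun n _ => ?_) h)
      rw [← hμC']; rfl)
  -- a test element
  obtain ⟨s, hs⟩ : ∃ s : normalizer (zpowers g : Set G), s = inclusion hEN y := ⟨_, rfl⟩
  obtain ⟨b, hb⟩ := hm s
  have hr2 : ((m s : ZMod p)) ^ 2 ≠ 1 := fun h => hy <| by
    have h1 : m (inclusion hEN (y ^ 2)) = 1 := by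
      rw [map_pow, map_pow, ← hs]
      exact Units.ext (by rw [Units.val_pow_eq_pow_val, h, Units.val_one])
    have h2 := hinj _ h1
    obtain ⟨k, hk⟩ := H.odd_order hodd y.2
    have h3 : (y : G) ^ orderOf (y : G) = 1 := pow_orderOf_eq_one _
    rw [hk, pow_succ, pow_mul, ← Subgroup.coe_pow, h2, OneMemClass.coe_one, one_pow, one_mul] at h3
    exact Subtype.ext h3
  have hsG : (s : G) ≠ 1 := fun h => hy (Subtype.ext (by rw [hs] at h; exact h))
  have hsnot : (s : G) ∉ zpowers g := fun h => by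
    have h1 := (hker s).2 h
    rw [hs] at h1
    exact hy (hinj y h1)
  have htrs : ∀ n : normalizer (zpowers g : Set G), (n : G) ∉ zpowers g →
      LinearMap.trace (IsLocalRing.ResidueField A) _ (ρ n) =
        cst (IsLocalRing.ResidueField A) (m n : ZMod p) +
          (cst (IsLocalRing.ResidueField A) (m n : ZMod p))⁻¹ := by
    intro n hn
    obtain ⟨t, ht, htr'⟩ := htr (n : G)
    have hval' := hval n
    rw [if_neg hn, add_zero] at hval'
    have : t = ((μ n : Aˣ) : A) + ((μ n⁻¹ : Aˣ) : A) := Subtype.ext (by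
      rw [ht]
      refine hval'.trans ?_
      rw [hμC', hμC']
      rfl)
    rw [htr', this, map_add, hμres, hμres, map_inv, Units.val_inv_eq_inv_val, cst, cst, map_inv₀]
  have hsinv : ((s⁻¹ : normalizer (zpowers g : Set G)) : G) ∉ zpowers g := fun h =>
    hsnot (by simpa using inv_mem h)
  have htrinv := htrs s⁻¹ hsinv
  rw [map_inv, Units.val_inv_eq_inv_val, cst, map_inv₀, inv_inv, add_comm] at htrinv
  have hle : Nat.card (Sylow p G) ≤ p + 1 := by
    refine card_sylow_le_of_eigen (ρ := ρ) hp7 hg P hP (not_sq_dvd (α := α) H.hcard) H.not_solvable e he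
      (s := (s : G)) s.2 (b := b) (r := (m s : ZMod p)) hb (m s).ne_zero hr2
      (by rw [Module.finrank_fin_fun, hd]) (htrs s hsnot) htrinv hv0 ?_ φ hφ0 ?_
    · intro n hn b' r' h'
      obtain rfl := huniq ⟨n, hn⟩ b' r' h'
      refine (hv ⟨n, hn⟩).trans ?_
      rw [hμres, map_inv, Units.val_inv_eq_inv_val, cst, cst, map_inv₀]
    · intro n hn b' r' h' x
      obtain rfl := huniq ⟨n, hn⟩ b' r' h'
      refine (hφ ⟨n, hn⟩ x).trans ?_
      rw [hμres]
  obtain ⟨n, num⟩ := H.exists_num
  have hn1 : n = 1 := by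
    have h1 := num.npos
    rw [num.sylow] at hle
    by_contra hne
    have : 2 * p ≤ n * p := Nat.mul_le_mul_right p (by omega)
    omega
  subst hn1
  obtain ⟨-, ⟨e'⟩⟩ := CfsgLib.BrauerPrime.of_n_eq_one H.setup num
  refine exceptional H.hcard H.five_le (F := ZMod p) ?_ e'
  rw [ZMod.ringChar_zmod_n]
  omega

end CfsgLib.PrimeDegTI
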