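import Cfsg.Agent.PrimeDegTI.Local
import Cfsg.Agent.Wall.Signed
import Cfsg.Agent.Wall.Dihedral
import Cfsg.Agent.Blocks.DefectZeroVanish

/-!
# Odd `|E|`: a character of degree `p + 1`
-/

set_option autoImplicit false
set_option linter.unusedSectionVars false
set_option linter.style.haveILetI false

namespace CfsgLib.PrimeDegTI

open Subgroup MulAction CfsgLib.Char
open scoped Classical ComplexConjugate

universe u

variable {p : ℕ} [hp : Fact p.Prime] {G : Type u} [Group G] [Fintype G] {α : Type u}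
  [MulAction G α] [FaithfulSMul G α] [MulAction.IsPretransitive G α]
variable {P : Sylow p G} {E : Subgroup G}

namespace Hyp

variable (H : Hyp α P E)
include H

theorem odd_order (hodd : Odd (Nat.card E)) {x : G} (hx : x ∈ E) : Odd (orderOf x) := by
  rw [← orderOf_mk x hx]
  exact hodd.of_dvd_nat (orderOf_dvd_natCard _)

theorem dih (hodd : Odd (Nat.card E)) {t : G} (ht : t ∈ normalizer (E : Set G)) (htE : t ∉ E) :
    CfsgLib.Wall.Dih E t where
  comm _ ha _ hb := H.E_comm ha hb
  inverts a ha := H.inv_of_odd ht htE ha (H.odd_order hodd ha)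
  not_mem := htE
  ti a ha ha1 g hg := by
    rcases H.cases ht htE (H.ti ha ha1 hg) with h | h
    · exact Or.inl h
    · right
      rw [show g * t = g * t⁻¹ * (t * t) by group]
      exact mul_mem h (H.t_sq ht htE)

/-- The character of degree `p` vanishes at elements of order divisible by `p`. -/
theorem theta_zero {θ : G → ℂ} (hθ : Cfsg.IsIrrCharacter G θ) (hθ1 : θ 1 = p) {x : G}
    (hx : p ∣ orderOf x) : θ x = 0 := by
  refine CfsgLib.Block.eq_zero_of_defectZero hp.out ⟨θ, hθ⟩ ?_ hx
  have h1 : Cfsg.charDegree θ = p := by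
    show ⌊(θ 1).re⌋₊ = p
    rw [hθ1, Complex.natCast_re, Nat.floor_natCast]
  rw [h1]
  calc p ^ (Nat.card G).factorization p ∣ p ^ 1 := pow_dvd_pow p (by
        by_contra hlt
        exact not_sq_dvd (G := G) (α := α) H.hcard
          ((hp.out.pow_dvd_iff_le_factorization Nat.card_pos.ne').2 (by omega)))
    _ = p := pow_one p

theorem not_inConj {x : G} (hx : orderOf x = p) : ¬ CfsgLib.Wall.InConj E x := fun ⟨y, hy⟩ => by
  refine H.not_dvd_E ?_
  rw [← hx, ← show orderOf (y * x * y⁻¹) = orderOf x from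
    orderOf_injective (MulAut.conj y).toMonoidHom (MulAut.conj y).injective x,
    ← orderOf_mk (y * x * y⁻¹) hy]
  exact orderOf_dvd_natCard _

/-- **The character of degree `p + 1`.** -/
theorem exists_chi (hodd : Odd (Nat.card E)) (a : E →* ℂˣ) (ha : a ≠ 1) :
    ∃ X : G → ℂ, Cfsg.IsIrrCharacter G X ∧ X 1 = p + 1 ∧
      (∀ x : E, x ≠ 1 → X x = (a x : ℂ) + a x⁻¹) ∧ ∀ x : G, orderOf x = p → X x = 1 := by
  classical
  obtain ⟨t, ht, htE⟩ := H.exists_t
  have D := H.dih hodd ht htE
  obtain ⟨θ, hθ, hθ1, huniq⟩ := H.exists_theta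
  haveI : Fintype (E →* ℂˣ) := CfsgLib.Wall.dualFintype D
  have hθone : θ ≠ fun _ => (1 : ℂ) := fun h => by
    have := congrFun h 1
    rw [hθ1, Nat.cast_eq_one] at this
    exact hp.out.one_lt.ne' this
  have hone : Cfsg.IsIrrCharacter G (fun _ => (1 : ℂ)) := isIrrCharacter_one
  have hone1 := IsIrrCharacter.classInner_self hone
  have h1θ : Cfsg.classInner (fun _ => (1 : ℂ)) θ = 0 :=
    IsIrrCharacter.classInner_of_ne hone hθ (fun h => hθone h.symm)
  have hθgen := IsIrrCharacter.isGeneralized hθ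
  -- the functions `τ`
  obtain ⟨τ, hτ⟩ : ∃ τ : (E →* ℂˣ) → G → ℂ,
      ∀ b, τ b = CfsgLib.Wall.fTI E b - fun _ => (1 : ℂ) := ⟨_, fun _ => rfl⟩
  have hτgen : ∀ b, Cfsg.IsGeneralizedCharacter G (τ b) := fun b => by
    rw [hτ]; exact IsGeneralized.sub (CfsgLib.Wall.fTI_isGeneralized b) isGeneralized_one
  have hsq : ∀ b : E →* ℂˣ, b ≠ 1 → b * b ≠ 1 := fun b hb h => by
    obtain ⟨c, hc⟩ : ∃ c, Nat.card E = 2 * c + 1 := hodd
    refine hb (MonoidHom.ext fun x => ?_)
    have h1 : b x * b x = 1 := DFunLike.congr_fun h x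
    have h2 : b x ^ Nat.card E = 1 := by rw [← map_pow, pow_card_eq_one', map_one]
    rw [hc, pow_succ, pow_mul, sq, h1, one_pow, one_mul] at h2
    exact h2
  have hττ : ∀ b c : E →* ℂˣ, b ≠ 1 → c ≠ 1 → Cfsg.classInner (τ b) (τ c) =
      1 + (if b = c then 1 else 0) + (if b * c = 1 then 1 else 0) := fun b c hb hc => by
    have h1 := CfsgLib.Wall.inner_fTI_one b hb
    have h2 := CfsgLib.Wall.inner_fTI_one c hc
    have h3 : Cfsg.classInner (fun _ => (1 : ℂ)) (CfsgLib.Wall.fTI E c) = 1 := by
      rw [CfsgLib.Wall.classInner_symm isGeneralized_one (CfsgLib.Wall.fTI_isGeneralized c), h2]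
    rw [hτ, hτ, classInner_sub_left, classInner_sub_right, classInner_sub_right,
      CfsgLib.Wall.inner_fTI_fTI D b c hb hc, h1, h3, hone1]
    ring
  have hτ1 : ∀ b, τ b 1 = -1 := fun b => by
    rw [hτ, Pi.sub_apply, CfsgLib.Wall.fTI_one, zero_sub]
  have hint : ∀ b, ∃ n : ℤ, Cfsg.classInner (CfsgLib.Wall.fTI E b) θ = n := fun b =>
    IsGeneralized.exists_classInner_eq_int (CfsgLib.Wall.fTI_isGeneralized b) hθgen
  choose c hc using hint
  have hτθ : ∀ b, Cfsg.classInner (τ b) θ = c b := fun b => by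
    rw [hτ, classInner_sub_left, hc, h1θ, sub_zero]
  have hc1 : c 1 = 0 := by
    have h := hc 1
    rw [CfsgLib.Wall.fTI_trivial, classInner_zero_left] at h
    exact_mod_cast h.symm
  -- a signed character of degree `± p` is `± θ`
  have hdegp : ∀ B : G → ℂ, IsSignedIrr B → (B 1 = p ∨ B 1 = -(p : ℂ)) →
      Cfsg.classInner B θ ≠ 0 := by
    intro B hB hB1 h0
    rcases hB with h | h
    · obtain ⟨n, hn, hn1⟩ := IsIrrCharacter.exists_degree h
      have h2 : B = θ := huniq B h (by
        rcases hB1 with e | e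
        · exact e
        · rw [hn1] at e
          have := congrArg Complex.re e
          simp only [Complex.natCast_re, Complex.neg_re] at this
          have : (0 : ℝ) < n := by exact_mod_cast hn
          have : (0 : ℝ) ≤ p := Nat.cast_nonneg p
          linarith)
      rw [h2, IsIrrCharacter.classInner_self hθ] at h0
      exact one_ne_zero h0
    · obtain ⟨n, hn, hn1⟩ := IsIrrCharacter.exists_degree h
      have h2 : -B = θ := huniq _ h (by
        rcases hB1 with e | e
        · rw [Pi.neg_apply, e] at hn1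
          have := congrArg Complex.re hn1
          simp only [Complex.natCast_re, Complex.neg_re] at this
          have : (0 : ℝ) < n := by exact_mod_cast hn
          have : (0 : ℝ) ≤ p := Nat.cast_nonneg p
          linarith
        · rw [Pi.neg_apply, e, neg_neg])
      rw [show B = -θ by rw [← h2, neg_neg], classInner_neg_left, IsIrrCharacter.classInner_self hθ] at h0
      norm_num at h0
  -- decomposition of a `τ` meeting `θ`
  have hsplit : ∀ b : E →* ℂˣ, b ≠ 1 → c b ≠ 0 → (c b = 1 ∨ c b = -1) ∧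
      ∃ R, IsSignedIrr R ∧ Cfsg.classInner R θ = 0 ∧ τ b = (c b : ℂ) • θ + R := by
    intro b hb hcb
    obtain ⟨A, B, hA, hB, hAB, hτAB⟩ := CfsgLib.Wall.exists_pair (hτgen b) (by
      rw [hττ b b hb hb, if_pos rfl, if_neg (hsq b hb)]; norm_num)
    have hθs : IsSignedIrr θ := Or.inl hθ
    have hsum : Cfsg.classInner A θ + Cfsg.classInner B θ = c b := by
      rw [← classInner_add_left, ← hτAB, hτθ]
    rcases CfsgLib.Wall.signed_inner_cases hA hθs with hA0 | ⟨hA1, hAe⟩ | ⟨hA1, hAe⟩
    · rcases CfsgLib.Wall.signed_inner_cases hB hθs with hB0 | ⟨hB1, hBe⟩ | ⟨hB1, hBe⟩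
      · rw [hA0, hB0, add_zero] at hsum
        exact absurd (by exact_mod_cast hsum.symm) hcb
      · rw [hA0, hB1, zero_add] at hsum
        have he : c b = 1 := by exact_mod_cast hsum.symm
        exact ⟨Or.inl he, A, hA, hA0, by rw [hτAB, he, hBe, Int.cast_one, one_smul, add_comm]⟩
      · rw [hA0, hB1, zero_add] at hsum
        have he : c b = -1 := by exact_mod_cast hsum.symm
        exact ⟨Or.inr he, A, hA, hA0, by
          rw [hτAB, he, hBe, Int.cast_neg, Int.cast_one, neg_one_smul, neg_neg, add_comm]⟩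
    · have hB0 : Cfsg.classInner B θ = 0 := by
        rw [hAe, CfsgLib.Wall.classInner_symm (CfsgLib.Wall.signed_isGeneralized hB)
          (CfsgLib.Wall.signed_isGeneralized hA), hAB]
      rw [hA1, hB0, add_zero] at hsum
      have he : c b = 1 := by exact_mod_cast hsum.symm
      exact ⟨Or.inl he, B, hB, hB0, by rw [hτAB, he, hAe, Int.cast_one, one_smul]⟩
    · have hB0 : Cfsg.classInner B θ = 0 := by
        rw [hAe, classInner_neg_right, CfsgLib.Wall.classInner_symm (CfsgLib.Wall.signed_isGeneralized hB)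
          (CfsgLib.Wall.signed_isGeneralized hA), hAB, neg_zero]
      rw [hA1, hB0, add_zero] at hsum
      have he : c b = -1 := by exact_mod_cast hsum.symm
      exact ⟨Or.inr he, B, hB, hB0, by
        rw [hτAB, he, hAe, Int.cast_neg, Int.cast_one, neg_one_smul, neg_neg]⟩
  -- some `τ` meets `θ`
  have hsum := CfsgLib.Wall.sum_of_int D (IsGeneralized.isClassFunction hθgen) hc
  obtain ⟨N, hN⟩ := IsGeneralized.exists_classInner_eq_int
    (IsGeneralized.restrict hθgen E) (isGeneralized_one (G := E))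
  have hsumN : ∑ x : E, θ x = (Nat.card E : ℂ) * N := by
    have h := sum_eq_card_mul_classInner (fun x : E => θ x) (fun _ => (1 : ℂ))
    rw [hN] at h
    simpa using h
  rw [hsumN, hθ1] at hsum
  obtain ⟨b₀, hb₀, hcb₀⟩ : ∃ b : E →* ℂˣ, b ≠ 1 ∧ c b ≠ 0 := by
    by_contra hall
    push Not at hall
    rw [Finset.sum_eq_zero fun b _ => by
      rcases eq_or_ne b 1 with e | e
      · rw [e, hc1, Int.cast_zero]
      · rw [hall b e, Int.cast_zero], add_zero] at hsum
    have h1 : ((Nat.card E : ℤ)) * N = (p : ℤ) := by exact_mod_cast hsum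
    have h2 : Nat.card E ∣ p := Int.natCast_dvd_natCast.1 ⟨N, h1.symm⟩
    rcases (Nat.dvd_prime hp.out).1 h2 with e | e
    · have := H.two_le_card_E; omega
    · exact H.not_dvd_E (e ▸ dvd_rfl)
  obtain ⟨hd, R₀, hR₀, hR₀θ, hτ₀⟩ := hsplit b₀ hb₀ hcb₀
  obtain ⟨d, hdd⟩ : ∃ d, d = c b₀ := ⟨_, rfl⟩
  rw [← hdd] at hd hτ₀
  -- all agree
  have hall : ∀ b : E →* ℂˣ, b ≠ 1 → c b = d := by
    intro b hb
    rcases eq_or_ne b b₀ with e | hne
    · rw [e, hdd]
    rcases eq_or_ne (b * b₀) 1 with e | hne'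
    · have he : b = b₀⁻¹ := MonoidHom.ext fun x => eq_inv_of_mul_eq_one_left (DFunLike.congr_fun e x)
      have h1 := hc b
      rw [he, CfsgLib.Wall.fTI_inv D b₀, hc b₀] at h1
      rw [he, hdd]
      exact_mod_cast h1.symm
    have hprod : Cfsg.classInner (τ b) (τ b₀) = 1 := by
      rw [hττ b b₀ hb hb₀, if_neg hne, if_neg hne']; ring
    by_cases hcb : c b = 0
    · exfalso
      obtain ⟨A, B, hA, hB, hAB, hτAB⟩ := CfsgLib.Wall.exists_pair (hτgen b) (by
        rw [hττ b b hb hb, if_pos rfl, if_neg (hsq b hb)]; norm_num)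
      have h0 := hτθ b
      rw [hcb, Int.cast_zero, hτAB, classInner_add_left] at h0
      rw [hτ₀, classInner_add_right, classInner_smul_right, hτθ, hcb, Int.cast_zero, mul_zero,
        zero_add, hτAB, classInner_add_left] at hprod
      have h1b : τ b 1 = A 1 + B 1 := by rw [hτAB]; rfl
      have h1z : τ b₀ 1 = (d : ℂ) * p + R₀ 1 := by
        rw [hτ₀, Pi.add_apply, Pi.smul_apply, hθ1, smul_eq_mul]
      rw [hτ1] at h1b h1z
      have key : ∀ A' B' : G → ℂ, IsSignedIrr B' → R₀ = A' → A' 1 + B' 1 = -1 →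
          Cfsg.classInner A' θ + Cfsg.classInner B' θ = 0 → False := by
        intro A' B' hB' e hs h0'
        have hB1 : B' 1 = (d : ℂ) * p := by
          rw [← e] at hs; linear_combination hs + h1z
        refine hdegp B' hB' ?_ ?_
        · rcases hd with e' | e'
          · left; rw [hB1, e', Int.cast_one, one_mul]
          · right; rw [hB1, e', Int.cast_neg, Int.cast_one, neg_one_mul]
        · rwa [← e, hR₀θ, zero_add] at h0'
      rcases CfsgLib.Wall.signed_inner_cases hA hR₀ with h | ⟨-, h⟩ | ⟨h', h⟩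
      · rcases CfsgLib.Wall.signed_inner_cases hB hR₀ with g | ⟨-, g⟩ | ⟨g, -⟩
        · rw [h, g] at hprod; norm_num at hprod
        · exact key B A hA g (by rw [add_comm, ← h1b]) (by rw [add_comm]; exact h0)
        · rw [h, g] at hprod; norm_num at hprod
      · exact key A B hB h h1b.symm h0
      · -- `R₀ = -A`, impossible
        have hBA : Cfsg.classInner B R₀ = 0 := by
          rw [h, classInner_neg_right, CfsgLib.Wall.classInner_symm
            (CfsgLib.Wall.signed_isGeneralized hB) (CfsgLib.Wall.signed_isGeneralized hA), hAB, neg_zero]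
        rw [h', hBA] at hprod
        norm_num at hprod
    obtain ⟨hdb, R, hR, hRθ, hτb⟩ := hsplit b hb hcb
    by_contra hdne
    have hmul : (c b : ℂ) * (d : ℂ) = -1 := by
      rcases hdb with e | e <;> rcases hd with e' | e' <;>
        first
          | exact absurd (e.trans e'.symm) hdne
          | (rw [e, e']; norm_num)
    have hθR₀ : Cfsg.classInner θ R₀ = 0 := by
      rw [CfsgLib.Wall.classInner_symm hθgen (CfsgLib.Wall.signed_isGeneralized hR₀), hR₀θ]
    rw [hτb, hτ₀, classInner_add_left, classInner_add_right, classInner_add_right,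
      classInner_smul_left, classInner_smul_left, classInner_smul_right, classInner_smul_right,
      IsIrrCharacter.classInner_self hθ, hθR₀, hRθ, map_intCast, mul_zero, mul_zero, mul_one,
      hmul, add_zero, zero_add] at hprod
    rcases CfsgLib.Wall.signed_inner_cases hR hR₀ with h | ⟨h, -⟩ | ⟨h, -⟩ <;>
      · rw [h] at hprod; norm_num at hprod
  -- the sign
  have hval : ∀ x : E, x ≠ 1 → θ x = d := fun x hx => by
    rw [CfsgLib.Wall.apply_of_int D (IsGeneralized.isClassFunction hθgen) hc x hx]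
    have h := CfsgLib.Wall.sum_dual D x
    rw [if_neg hx] at h
    rw [← Finset.add_sum_erase _ _ (Finset.mem_univ (1 : E →* ℂˣ))] at h ⊢
    rw [hc1, Int.cast_zero, mul_zero, zero_add, Finset.sum_congr rfl fun b hb => by
      rw [hall b (Finset.ne_of_mem_erase hb)], ← Finset.sum_mul]
    simp only [MonoidHom.one_apply, Units.val_one] at h
    linear_combination (-(d : ℂ)) * h
  have hd1 : d = 1 := by
    refine hd.resolve_right fun e => ?_
    rw [← Finset.add_sum_erase _ _ (Finset.mem_univ (1 : E)), Finset.sum_congr rfl fun x hx =>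
      hval x (Finset.ne_of_mem_erase hx), Finset.sum_const, Finset.card_erase_of_mem (Finset.mem_univ _),
      Finset.card_univ, ← Nat.card_eq_fintype_card, OneMemClass.coe_one, hθ1, nsmul_eq_mul,
      Nat.cast_sub (by have := H.two_le_card_E; omega), e] at hsumN
    push_cast at hsumN
    have h1 : (p : ℤ) + 1 - Nat.card E = (Nat.card E : ℤ) * N := by
      have : (((p : ℤ) + 1 - Nat.card E : ℤ) : ℂ) = (((Nat.card E : ℤ) * N : ℤ) : ℂ) := by
        push_cast; linear_combination hsumN
      exact_mod_cast this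
    have h2 : (Nat.card E : ℤ) ∣ (p : ℤ) + 1 := ⟨N + 1, by linear_combination h1⟩
    have h3 : Nat.card E ∣ p + 1 := Int.natCast_dvd_natCast.1 (by exact_mod_cast h2)
    have h4 := Nat.dvd_sub h3 H.card_E_dvd
    rw [show p + 1 - (p - 1) = 2 by have := hp.out.two_le; omega] at h4
    have h5 := Nat.le_of_dvd two_pos h4
    obtain ⟨k, hk⟩ := hodd
    have := H.two_le_card_E
    omega
  subst hd1
  -- the character
  obtain ⟨-, R, hR, -, hτa⟩ := hsplit a ha (by rw [hall a ha]; norm_num)
  rw [hall a ha, Int.cast_one, one_smul] at hτa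
  have hRX : R = τ a - θ := by rw [hτa, add_sub_cancel_left]
  have hR1 : R 1 = -((p : ℂ) + 1) := by
    rw [hRX, Pi.sub_apply, hτ1, hθ1]; ring
  refine ⟨-R, hR.resolve_left fun h => ?_, by rw [Pi.neg_apply, hR1, neg_neg], fun x hx => ?_, fun x hx => ?_⟩
  · obtain ⟨n, hn, hn1⟩ := IsIrrCharacter.exists_degree h
    rw [hR1] at hn1
    have := congrArg Complex.re hn1
    simp only [Complex.natCast_re, Complex.neg_re, Complex.add_re, Complex.one_re] at this
    have : (0 : ℝ) < n := by exact_mod_cast hn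
    have : (0 : ℝ) ≤ p := Nat.cast_nonneg p
    linarith
  · rw [Pi.neg_apply, hRX, Pi.sub_apply, hval x hx, hτ, Pi.sub_apply,
      CfsgLib.Wall.fTI_apply_mem D a x hx]
    push_cast
    ring
  · rw [Pi.neg_apply, hRX, Pi.sub_apply, H.theta_zero hθ hθ1 (hx ▸ dvd_rfl), hτ, Pi.sub_apply,
      CfsgLib.Wall.fTI_not_inConj a (H.not_inConj hx)]
    ring

end Hyp

end CfsgLib.PrimeDegTI
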