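import Cfsg.Agent.BrauerPrime.Setup
import Cfsg.Agent.Char.LinearTwist
import Cfsg.Agent.GLn.SteinbergSL
import Cfsg.Agent.Perm.PrimeAddOneFour

/-!
# The hypotheses: prime degree, one character of degree `p`, a trivial intersection complement
-/

set_option autoImplicit false
set_option linter.unusedSectionVars false
set_option linter.style.haveILetI false

namespace CfsgLib.PrimeDegTI

open Subgroup MulAction CfsgLib.Block CfsgLib.Char
open scoped Classical ComplexConjugate

universe u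

variable {p : ℕ} [hp : Fact p.Prime] {G : Type u} [Group G] [Fintype G] {α : Type u}
  [MulAction G α] [FaithfulSMul G α] [MulAction.IsPretransitive G α]

/-- The hypotheses. -/
structure Hyp (α : Type u) [MulAction G α] (P : Sylow p G) (E : Subgroup G) : Prop where
  hcard : Nat.card α = p
  huniq : ∃! χ : Cfsg.IrrCharacter G, Cfsg.charDegree (χ : G → ℂ) = p
  hPE : (P : Subgroup G) ⊔ E = normalizer ((P : Subgroup G) : Set G)
  hPE' : (P : Subgroup G) ⊓ E = ⊥
  hNE : Nat.card (normalizer (E : Set G)) = 2 * Nat.card E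
  hTI : ∀ g : G, g ∉ normalizer (E : Set G) → E ⊓ E.map (MulAut.conj g).toMonoidHom = ⊥

variable {P : Sylow p G} {E : Subgroup G}

theorem finite_of_card (h : Nat.card α = p) : Finite α :=
  Nat.finite_of_card_ne_zero (h ▸ hp.out.ne_zero)

theorem not_sq_dvd (h : Nat.card α = p) : ¬ p ^ 2 ∣ Nat.card G := by
  haveI := finite_of_card (α := α) h
  intro hd
  have h1 : Nat.card G ∣ Nat.card (Equiv.Perm α) :=
    Subgroup.card_dvd_of_injective (MulAction.toPermHom G α) MulAction.toPerm_injective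
  rw [Nat.card_perm, h] at h1
  have h2 := hd.trans h1
  rw [sq, ← Nat.mul_factorial_pred hp.out.ne_zero] at h2
  have h3 := Nat.dvd_of_mul_dvd_mul_left hp.out.pos h2
  have := hp.out.dvd_factorial.1 h3
  have := hp.out.two_le
  omega

theorem dvd_card (h : Nat.card α = p) : p ∣ Nat.card G := by
  haveI := finite_of_card (α := α) h
  obtain ⟨a⟩ : Nonempty α := (Nat.card_pos_iff.mp (h ▸ hp.out.pos)).1
  rw [← h, ← index_stabilizer_of_transitive G a]; exact Subgroup.index_dvd_card _

theorem card_sylow (h : Nat.card α = p) (P : Sylow p G) : Nat.card P = p := by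
  obtain ⟨g, hg, hP⟩ := CfsgLib.PrimeDegree.exists_sylow_generator h P
  rw [show Nat.card P = Nat.card (P : Subgroup G) from rfl, hP, Nat.card_zpowers, hg]

theorem dvd_card_normal (h : Nat.card α = p) {K : Subgroup G} (hK : K.Normal) (hne : K ≠ ⊥) :
    p ∣ Nat.card K := by
  haveI := finite_of_card (α := α) h
  haveI : IsPreprimitive G α := IsPreprimitive.of_prime_card (h ▸ hp.out)
  haveI := hK
  haveI : IsPretransitive K α := CfsgLib.PermBasic.isPretransitive_of_normal K hne
  obtain ⟨a⟩ : Nonempty α := (Nat.card_pos_iff.mp (h ▸ hp.out.pos)).1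
  rw [← h, ← index_stabilizer_of_transitive K a]; exact Subgroup.index_dvd_card _

theorem le_of_normal (h : Nat.card α = p) {K : Subgroup G} (hK : K.Normal) (hne : K ≠ ⊥)
    (P : Sylow p G) : (P : Subgroup G) ≤ K := by
  haveI := hK
  obtain ⟨⟨x, hx⟩, hxo⟩ := exists_prime_orderOf_dvd_card' p (dvd_card_normal h hK hne)
  have hxo' : orderOf x = p := by rw [← hxo, ← Subgroup.orderOf_coe]
  obtain ⟨Q, hQ⟩ := (IsPGroup.of_card (n := 1) (by rw [Nat.card_zpowers, hxo', pow_one]) :
    IsPGroup p (Subgroup.zpowers x)).exists_le_sylow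
  have hQK : (Q : Subgroup G) ≤ K := by
    rw [← Subgroup.eq_of_le_of_card_ge hQ (by
      rw [Nat.card_zpowers, hxo']; exact (card_sylow h Q).le)]
    exact zpowers_le.2 hx
  obtain ⟨a, ha⟩ := MulAction.exists_smul_eq G Q P
  intro v hv
  rw [← ha] at hv
  obtain ⟨v', hv', rfl⟩ := hv
  exact hK.conj_mem _ (hQK hv') a

/-- The affine description of the normalizer. -/
theorem exists_mult (h : Nat.card α = p) {g : G} (hg : orderOf g = p) {e : ZMod p ≃ α}
    (he : ∀ (n : ℕ) (j : ZMod p), g ^ n • e j = e (j + n)) :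
    ∃ m : normalizer (zpowers g : Set G) →* (ZMod p)ˣ,
      (∀ n : normalizer (zpowers g : Set G), ∃ b, ∀ i, (n : G) • e i = e (b + (m n : ZMod p) * i)) ∧
      ∀ n, m n = 1 ↔ (n : G) ∈ zpowers g := by
  have haff : ∀ n : normalizer (zpowers g : Set G),
      ∃ b r : ZMod p, r ≠ 0 ∧ ∀ i, (n : G) • e i = e (b + r * i) := fun n =>
    CfsgLib.PrimeDegree.affine_of_conj_mem he n
      ((mem_normalizer_iff.1 n.2 g).1 (mem_zpowers g))
  let σ : normalizer (zpowers g : Set G) →* ZMod p :=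
    { toFun := fun n => e.symm ((n : G) • e 1) - e.symm ((n : G) • e 0)
      map_one' := by simp
      map_mul' := fun x y => by
        obtain ⟨a₁, b₁, -, h1⟩ := haff x
        obtain ⟨a₂, b₂, -, h2⟩ := haff y
        simp only [Subgroup.coe_mul, mul_smul, h1, h2, Equiv.symm_apply_apply]
        ring }
  have hσ : ∀ n : normalizer (zpowers g : Set G), ∃ b, ∀ i, (n : G) • e i = e (b + σ n * i) :=
    fun n => by
    obtain ⟨b, r, -, h1⟩ := haff n
    refine ⟨b, fun i => ?_⟩
    simp only [σ, MonoidHom.coe_mk, OneHom.coe_mk, h1, Equiv.symm_apply_apply]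
    congr 1
    ring
  refine ⟨σ.toHomUnits, hσ, fun n => ⟨fun hn => ?_, fun hn => Units.ext ?_⟩⟩
  · have h1 : σ n = 1 := congrArg Units.val hn
    obtain ⟨b, hb⟩ := hσ n
    have : (n : G) = g ^ b.val := eq_of_smul_eq_smul (α := α) fun x => by
      obtain ⟨i, rfl⟩ := e.surjective x
      rw [hb, h1, one_mul, he, ZMod.natCast_zmod_val, add_comm]
    rw [this]; exact pow_mem (mem_zpowers g) _
  · obtain ⟨k, -, hk⟩ := Finset.mem_image.mp (mem_zpowers_iff_mem_range_orderOf.mp hn)
    show e.symm ((n : G) • e 1) - e.symm ((n : G) • e 0) = 1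
    rw [← hk, he, he, Equiv.symm_apply_apply, Equiv.symm_apply_apply]
    ring

namespace Hyp

variable (H : Hyp α P E)
include H

theorem cardP : Nat.card P = p := card_sylow H.hcard P

theorem exists_theta :
    ∃ θ : G → ℂ, Cfsg.IsIrrCharacter G θ ∧ θ 1 = p ∧
      ∀ χ, Cfsg.IsIrrCharacter G χ → χ 1 = p → χ = θ := by
  obtain ⟨θ, hθ, hu⟩ := H.huniq
  refine ⟨θ, θ.2, by rw [(CfsgLib.Block.Chr.irr_one θ).1]; exact_mod_cast hθ, fun χ hχ h1 => ?_⟩
  have := hu ⟨χ, hχ⟩ (by show ⌊(χ 1).re⌋₊ = p; rw [h1]; simp)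
  exact congrArg Subtype.val this

theorem perfect : commutator G = ⊤ := by
  obtain ⟨θ, hθ, hθ1, hu⟩ := H.exists_theta
  have hoff : ∀ g ∉ commutator G, θ g = 0 := by
    intro g hg
    obtain ⟨lam, hlam⟩ := exists_hom_ne_one hg
    have h1 := congrFun (hu _ (IsIrrCharacter.mul_hom hθ lam) (by simp [hθ1])) g
    rw [Pi.mul_apply] at h1
    have h2 : θ g * ((lam g : ℂ) - 1) = 0 := by rw [mul_sub, h1, mul_one, sub_self]
    exact (mul_eq_zero.1 h2).resolve_right (sub_ne_zero.2 fun e => hlam (Units.ext e))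
  have hne : commutator G ≠ ⊥ := by
    intro hbot
    have hab : ∀ a b : G, a * b = b * a := fun a b =>
      commutatorElement_eq_one_iff_mul_comm.1 (Subgroup.mem_bot.1
        (hbot ▸ commutator_mem_commutator (mem_top a) (mem_top b)))
    have := abelian_iff_degree_one.1 hab θ hθ
    rw [hθ1, Nat.cast_eq_one] at this
    exact hp.out.one_lt.ne' this
  have hidx : ¬ p ∣ (commutator G).index := fun hd => by
    have h1 := dvd_card_normal (G := G) H.hcard (inferInstance : (commutator G).Normal) hne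
    refine not_sq_dvd (G := G) (α := α) H.hcard ?_
    rw [sq, ← Subgroup.card_mul_index (commutator G)]
    exact Nat.mul_dvd_mul h1 hd
  have hres := CfsgLib.GLn.isIrr_restrict_of_coprime (commutator G) hp.out hθ (a := 1)
    (by rw [hθ1, pow_one]) hidx
  have h1 := sum_eq_card_mul_classInner (fun x : commutator G => θ x) (fun x : commutator G => θ x)
  rw [IsIrrCharacter.classInner_self hres, mul_one] at h1
  have h2 := sum_eq_card_mul_classInner θ θ
  rw [IsIrrCharacter.classInner_self hθ, mul_one] at h2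
  rw [← Finset.sum_subset (Finset.subset_univ (Finset.univ.filter fun g => g ∈ commutator G))
      (fun g _ hg => by rw [hoff g (by simpa using hg), zero_mul]),
    Finset.sum_subtype (p := fun g => g ∈ commutator G) _ (fun g => by simp)] at h2
  exact eq_top_of_card_eq _ (Nat.cast_injective (h1.symm.trans h2))

theorem core {K : Subgroup G} (hK : K.Normal) (hd : ¬ p ∣ Nat.card K) : K = ⊥ :=
  by_contra fun hne => hd (dvd_card_normal H.hcard hK hne)

theorem setup : CfsgLib.BrauerPrime.Setup G p P := ⟨H.cardP, H.perfect, fun _ hK hd => H.core hK hd⟩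

theorem E_le : E ≤ normalizer ((P : Subgroup G) : Set G) := H.hPE ▸ le_sup_right

theorem E_comm {x y : G} (hx : x ∈ E) (hy : y ∈ E) : x * y = y * x := by
  obtain ⟨g, hg, hP⟩ := CfsgLib.PrimeDegree.exists_sylow_generator H.hcard P
  obtain ⟨e, he⟩ := CfsgLib.PrimeDegree.exists_chart H.hcard hg
  obtain ⟨m, -, hker⟩ := exists_mult H.hcard hg he
  have hEN : E ≤ normalizer (zpowers g : Set G) := hP ▸ H.E_le
  obtain ⟨c, hc⟩ : ∃ c, c = x * y * x⁻¹ * y⁻¹ := ⟨_, rfl⟩
  have hcE : c ∈ E := hc ▸ mul_mem (mul_mem (mul_mem hx hy) (inv_mem hx)) (inv_mem hy)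
  have h1 : m ⟨c, hEN hcE⟩ = 1 := by
    have : (⟨c, hEN hcE⟩ : normalizer (zpowers g : Set G)) =
        ⟨x, hEN hx⟩ * ⟨y, hEN hy⟩ * ⟨x, hEN hx⟩⁻¹ * ⟨y, hEN hy⟩⁻¹ := Subtype.ext hc
    rw [this, map_mul, map_mul, map_mul, map_inv, map_inv, mul_comm (m _) (m _)]
    simp
  have h2 : c ∈ (P : Subgroup G) ⊓ E := ⟨hP ▸ (hker _).1 h1, hcE⟩
  rw [H.hPE', mem_bot, hc, mul_inv_eq_one, mul_inv_eq_iff_eq_mul] at h2
  exact h2

theorem isCyclic_E : IsCyclic E := by
  obtain ⟨g, hg, hP⟩ := CfsgLib.PrimeDegree.exists_sylow_generator H.hcard P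
  obtain ⟨e, he⟩ := CfsgLib.PrimeDegree.exists_chart H.hcard hg
  obtain ⟨m, -, hker⟩ := exists_mult H.hcard hg he
  have hEN : E ≤ normalizer (zpowers g : Set G) := hP ▸ H.E_le
  refine isCyclic_of_injective (m.comp (inclusion hEN)) fun a b hab => ?_
  rw [MonoidHom.comp_apply, MonoidHom.comp_apply, ← mul_inv_eq_one, ← map_inv, ← map_mul] at hab
  have h2 : ((a * b⁻¹ : E) : G) ∈ (P : Subgroup G) ⊓ E := ⟨by
    have := (hker _).1 hab
    rw [hP]; simpa using this, (a * b⁻¹).2⟩
  rw [H.hPE', mem_bot, OneMemClass.coe_eq_one, mul_inv_eq_one] at h2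
  exact h2

theorem isSimple : IsSimpleGroup G := by
  haveI : Nontrivial G := Finite.one_lt_card_iff_nontrivial.1
    (lt_of_lt_of_le hp.out.one_lt (Nat.le_of_dvd Nat.card_pos (dvd_card (α := α) H.hcard)))
  refine IsSimpleGroup.mk fun K hK => or_iff_not_imp_left.2 fun hne => ?_
  haveI := hK
  have hPK := le_of_normal H.hcard hK hne P
  have hfr : (P : Subgroup G) ⊔ E ⊔ K = ⊤ := by
    rw [H.hPE]; exact Sylow.normalizer_sup_eq_top' P hPK
  have hcomm : commutator G ≤ K := by
    rw [commutator_def, Subgroup.commutator_le]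
    have hall : ∀ x : G, ∃ k ∈ K, ∃ y ∈ E, x = k * y := fun x => by
      have hx : x ∈ (↑(K ⊔ E) : Set G) := by
        have : K ⊔ E = ⊤ := by
          rw [eq_top_iff, ← hfr]
          exact sup_le (sup_le (hPK.trans le_sup_left) le_sup_right) le_sup_left
        rw [this]; trivial
      rw [Subgroup.normal_mul] at hx
      obtain ⟨k, hk, y, hy, rfl⟩ := hx
      exact ⟨k, hk, y, hy, rfl⟩
    intro a _ b _
    obtain ⟨k, hk, x, hx, rfl⟩ := hall a
    obtain ⟨l, hl, y, hy, rfl⟩ := hall b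
    rw [← QuotientGroup.eq_one_iff, commutatorElement_def]
    simp only [QuotientGroup.mk_mul, QuotientGroup.mk_inv, (QuotientGroup.eq_one_iff k).2 hk,
      (QuotientGroup.eq_one_iff l).2 hl, one_mul]
    have hxy : (x : G ⧸ K) * y = y * x := by
      rw [← QuotientGroup.mk_mul, H.E_comm hx hy, QuotientGroup.mk_mul]
    rw [hxy]
    group
  exact eq_top_iff.2 (H.perfect ▸ hcomm)

theorem not_solvable : ¬ Group.IsSolvable G := fun hs => by
  haveI := H.isSimple
  exact (IsSolvable.commutator_lt_top_of_nontrivial G).ne H.perfect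

theorem card_normalizer_P : Nat.card (normalizer ((P : Subgroup G) : Set G)) = p * Nat.card E := by
  have hle : E ≤ normalizer ((P : Subgroup G) : Set G) := H.E_le
  rw [← H.hPE]
  conv_rhs => rw [← H.cardP]
  rw [show Nat.card P = Nat.card (P : Subgroup G) from rfl, ← Nat.card_prod]
  symm
  refine Nat.card_eq_of_bijective
    (fun z => (⟨z.1 * z.2, mul_mem_sup z.1.2 z.2.2⟩ : ((P : Subgroup G) ⊔ E : Subgroup G))) ⟨?_, ?_⟩
  · intro a b hab
    have h1 : (a.1 : G) * a.2 = b.1 * b.2 := congrArg Subtype.val hab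
    have h2 : ((b.1 : G))⁻¹ * a.1 ∈ (P : Subgroup G) ⊓ E := ⟨Subgroup.mul_mem _ (Subgroup.inv_mem _ b.1.2) a.1.2, by
      rw [show ((b.1 : G))⁻¹ * a.1 = b.2 * (a.2 : G)⁻¹ by
        rw [eq_mul_inv_iff_mul_eq, mul_assoc, h1, inv_mul_cancel_left]]
      exact Subgroup.mul_mem _ b.2.2 (Subgroup.inv_mem _ a.2.2)⟩
    rw [H.hPE', mem_bot, inv_mul_eq_one] at h2
    refine Prod.ext (Subtype.ext h2.symm) (Subtype.ext ?_)
    rw [h2] at h1; exact mul_left_cancel h1
  · rintro ⟨x, hx⟩
    have hx' : x ∈ (↑((P : Subgroup G) ⊔ E) : Set G) := hx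
    rw [coe_mul_of_right_le_normalizer_left _ _ hle] at hx'
    obtain ⟨u, hu, y, hy, rfl⟩ := hx'
    exact ⟨(⟨u, hu⟩, ⟨y, hy⟩), rfl⟩

end Hyp

end CfsgLib.PrimeDegTI
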