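import Cfsg.Agent.PrimeDegTI.Local
import Cfsg.Agent.S3224
import Cfsg.Agent.Invol.ThompsonTransfer
import Cfsg.Agent.Invol.FocalTransfer

/-!
# The case of even `|E|`: a single class of involutions and the inversion of `E`
-/

set_option autoImplicit false
set_option linter.unusedSectionVars false
set_option linter.style.haveILetI false

namespace CfsgLib.PrimeDegTI

open Subgroup MulAction
open scoped Classical

universe u

variable {p : ℕ} [hp : Fact p.Prime] {G : Type u} [Group G] [Fintype G] {α : Type u}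
  [MulAction G α] [FaithfulSMul G α] [MulAction.IsPretransitive G α]
variable {P : Sylow p G} {E : Subgroup G}

namespace Hyp

variable (H : Hyp α P E)
include H

theorem not_index_two (M : Subgroup G) : M.Normal → M.index ≠ 2 := fun hM h2 => by
  rcases H.isSimple.eq_bot_or_eq_top_of_normal M hM with e | e
  · subst e
    rw [Subgroup.index_bot] at h2
    have h := Nat.le_of_dvd (by rw [h2]; norm_num) (dvd_card (G := G) (α := α) H.hcard)
    have := H.five_le
    omega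
  · rw [e, Subgroup.index_top] at h2; omega

theorem exists_invol (he : 2 ∣ Nat.card E) :
    ∃ i ∈ E, orderOf i = 2 ∧ ∀ x ∈ E, x * x = 1 → x = 1 ∨ x = i := by
  haveI := H.isCyclic_E
  haveI : Fact (Nat.Prime 2) := ⟨Nat.prime_two⟩
  obtain ⟨i, hi⟩ := exists_prime_orderOf_dvd_card' (G := E) 2 he
  refine ⟨i, i.2, by rw [orderOf_coe, hi], fun x hx hxx => or_iff_not_imp_left.2 fun hx1 => ?_⟩
  have hxo : orderOf (⟨x, hx⟩ : E) = 2 := by
    rw [orderOf_mk]; exact orderOf_eq_prime (by rw [sq, hxx]) hx1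
  obtain ⟨k, hk⟩ := mem_zpowers_iff.1
    (mem_zpowers_of_order (x := i) (z := (⟨x, hx⟩ : E)) (by rw [hxo, hi]))
  have hk' : (i : G) ^ k = x := congrArg Subtype.val hk
  have hii : (i : G) * i = 1 := by
    rw [← sq, ← hi, ← orderOf_coe, pow_orderOf_eq_one]
  rcases Int.even_or_odd k with ⟨j, rfl⟩ | ⟨j, rfl⟩
  · exact absurd (by rw [← hk', ← two_mul, zpow_mul, zpow_two, hii, one_zpow]) hx1
  · rw [← hk', zpow_add_one, zpow_mul, zpow_two, hii, one_zpow, one_mul]

theorem conj_invol {i : G} (hi : i ∈ E) (hio : orderOf i = 2)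
    (hu : ∀ x ∈ E, x * x = 1 → x = 1 ∨ x = i) {g : G} (hg : g * i * g⁻¹ ∈ E) : g * i * g⁻¹ = i := by
  have hii : i * i = 1 := by rw [← sq, ← hio, pow_orderOf_eq_one]
  refine (hu _ hg (by rw [conj_mul, hii, mul_one, mul_inv_cancel])).resolve_left fun h => ?_
  rw [conj_eq_one_iff.1 h, orderOf_one] at hio
  omega

theorem centralizer_invol {i : G} (hi : i ∈ E) (hio : orderOf i = 2)
    (hu : ∀ x ∈ E, x * x = 1 → x = 1 ∨ x = i) :
    centralizer ({i} : Set G) = normalizer (E : Set G) := by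
  refine le_antisymm (H.centralizer_le hi fun h => ?_) fun g hg => mem_centralizer_singleton_iff.2 ?_
  · rw [h, orderOf_one] at hio; omega
  · exact mul_inv_eq_iff_eq_mul.1 (H.conj_invol hi hio hu ((mem_normalizer_iff.1 hg i).1 hi))

/-- A Sylow `2`-subgroup through one of `N(E)`. -/
theorem exists_two_sylow : ∃ S : Sylow 2 G,
    (∀ z ∈ E, (∃ k : ℕ, z ^ 2 ^ k = 1) → z ∈ (S : Subgroup G)) ∧
    (∃ t ∈ (S : Subgroup G), t ∈ normalizer (E : Set G) ∧ t ∉ E) ∧
    ∀ W : Subgroup G, IsPGroup 2 W → W ≤ normalizer (E : Set G) →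
      Nat.card W ≤ Nat.card ((S : Subgroup G) ⊓ normalizer (E : Set G) : Subgroup G) := by
  haveI : Fact (Nat.Prime 2) := ⟨Nat.prime_two⟩
  obtain ⟨Q⟩ := (Sylow.nonempty : Nonempty (Sylow 2 (normalizer (E : Set G))))
  obtain ⟨S, hS⟩ := (Q.2.map (normalizer (E : Set G)).subtype).exists_le_sylow
  refine ⟨S, fun z hz hzk => ?_, ?_, fun W hW hWN => ?_⟩
  · haveI := H.isCyclic_E
    obtain ⟨k, hk⟩ := hzk
    obtain ⟨z', hz'⟩ : ∃ z' : normalizer (E : Set G), z' = ⟨z, le_normalizer hz⟩ := ⟨_, rfl⟩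
    haveI : (zpowers z').Normal := ⟨fun a ha c => by
      obtain ⟨m, rfl⟩ := mem_zpowers_iff.1 ha
      rw [← conj_zpow]
      refine zpow_mem ?_ m
      have hc : (c : G) * z * (c : G)⁻¹ ∈ E := (mem_normalizer_iff.1 c.2 z).1 hz
      obtain ⟨l, hl⟩ := mem_zpowers_iff.1 (mem_zpowers_of_order (x := (⟨z, hz⟩ : E))
        (z := (⟨_, hc⟩ : E)) (by
          rw [orderOf_mk, orderOf_mk]
          exact orderOf_injective (MulAut.conj (c : G)).toMonoidHom (MulAut.conj (c : G)).injective z))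
      refine mem_zpowers_iff.2 ⟨l, Subtype.ext ?_⟩
      rw [hz']
      have h' : z ^ l = (c : G) * z * (c : G)⁻¹ := congrArg Subtype.val hl
      simpa using h'⟩
    have hzp : IsPGroup 2 (zpowers z') := IsPGroup.iff_orderOf.2 fun g => by
      obtain ⟨j, -, hj⟩ := (Nat.dvd_prime_pow Nat.prime_two).1 ((orderOf_dvd_of_mem_zpowers g.2).trans
        (orderOf_dvd_of_pow_eq_one (show z' ^ 2 ^ k = 1 from Subtype.ext (by rw [hz']; exact hk))))
      exact ⟨j, by rw [← orderOf_coe]; exact hj⟩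
    have hzQ : z' ∈ (Q : Subgroup (normalizer (E : Set G))) := by
      rw [← Q.3 (Q.2.to_sup_of_normal_right hzp) le_sup_left]
      exact mem_sup_right (mem_zpowers z')
    exact hS ⟨z', hzQ, by rw [hz']; rfl⟩
  · by_contra hno
    push Not at hno
    have hle : (Q : Subgroup (normalizer (E : Set G))) ≤ E.subgroupOf (normalizer (E : Set G)) :=
      fun x hx => mem_subgroupOf.2 (hno _ (hS ⟨x, hx, rfl⟩) x.2)
    have h2 := index_dvd_of_le hle
    rw [H.index_two] at h2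
    exact Sylow.not_dvd_index Q h2
  · obtain ⟨Q', hQ'⟩ := (hW.of_equiv (subgroupOfEquivOfLe hWN).symm).exists_le_sylow
    have h1 := Subgroup.card_le_of_le hQ'
    rw [Nat.card_congr (subgroupOfEquivOfLe hWN).toEquiv, Q'.card_eq_multiplicity,
      ← Q.card_eq_multiplicity] at h1
    refine h1.trans ?_
    rw [← card_map_of_injective (f := (normalizer (E : Set G)).subtype) Subtype.coe_injective]
    exact Subgroup.card_le_of_le (le_inf hS (map_subtype_le _))

variable {S : Sylow 2 G} {t : G}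

theorem card_inf_normalizer (ht : t ∈ (S : Subgroup G)) (htN : t ∈ normalizer (E : Set G))
    (htE : t ∉ E) :
    Nat.card ((S : Subgroup G) ⊓ normalizer (E : Set G) : Subgroup G) =
      2 * Nat.card ((S : Subgroup G) ⊓ E : Subgroup G) := by
  obtain ⟨W, hW⟩ : ∃ W, W = (S : Subgroup G) ⊓ normalizer (E : Set G) := ⟨_, rfl⟩
  rw [← hW]
  have hle : (S : Subgroup G) ⊓ E ≤ W := hW ▸ inf_le_inf le_rfl le_normalizer
  have hidx : (((S : Subgroup G) ⊓ E).subgroupOf W).index = 2 := by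
    refine index_eq_two_iff.2 ⟨⟨t⁻¹, hW ▸ ⟨(S : Subgroup G).inv_mem ht, Subgroup.inv_mem _ htN⟩⟩, fun b => ?_⟩
    have hb : (b : G) ∈ (S : Subgroup G) ⊓ normalizer (E : Set G) := hW ▸ b.2
    simp only [mem_subgroupOf, mem_inf, Subgroup.coe_mul]
    rcases H.cases htN htE hb.2 with h | h
    · exact Or.inr ⟨⟨hb.1, h⟩, fun h2 => htE ((inv_mem_iff (H := E)).1 ((E.mul_mem_cancel_left h).1 h2.2))⟩
    · exact Or.inl ⟨⟨(S : Subgroup G).mul_mem hb.1 ((S : Subgroup G).inv_mem ht), h⟩,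
        fun h2 => htE ((inv_mem_iff (H := E)).1 ((E.mul_mem_cancel_left h2.2).1 h))⟩
  have h := card_mul_index (((S : Subgroup G) ⊓ E).subgroupOf W)
  rw [hidx, Nat.card_congr (subgroupOfEquivOfLe hle).toEquiv] at h
  omega

/-- The Sylow `2`-subgroup lies in `N(E)`. -/
theorem sylow_le {i : G} (hi : i ∈ E) (hio : orderOf i = 2)
    (hu : ∀ x ∈ E, x * x = 1 → x = 1 ∨ x = i)
    (hS2 : ∀ z ∈ E, (∃ k : ℕ, z ^ 2 ^ k = 1) → z ∈ (S : Subgroup G))
    (ht : t ∈ (S : Subgroup G)) (htN : t ∈ normalizer (E : Set G)) (htE : t ∉ E)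
    (hmax : ∀ W : Subgroup G, IsPGroup 2 W → W ≤ normalizer (E : Set G) →
      Nat.card W ≤ Nat.card ((S : Subgroup G) ⊓ normalizer (E : Set G) : Subgroup G)) :
    (S : Subgroup G) ≤ normalizer (E : Set G) := by
  haveI : Fact (Nat.Prime 2) := ⟨Nat.prime_two⟩
  by_contra hSN
  have hCi := H.centralizer_invol hi hio hu
  have hiS : i ∈ (S : Subgroup G) := hS2 i hi ⟨1, by rw [pow_one, ← hio, pow_orderOf_eq_one]⟩
  obtain ⟨W, hW⟩ : ∃ W, W = (S : Subgroup G) ⊓ normalizer (E : Set G) := ⟨_, rfl⟩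
  by_cases hbig : ∃ r ∈ (S : Subgroup G) ⊓ E, r * r ≠ 1
  · obtain ⟨r, hr, hr2⟩ := hbig
    -- a normalizing element fixes the involution
    have hlt : W.subgroupOf S < ⊤ := lt_top_iff_ne_top.2 fun h => hSN
      ((subgroupOf_eq_top.1 h).trans (hW ▸ inf_le_right))
    haveI : Group.IsNilpotent (S : Subgroup G) := S.2.isNilpotent
    obtain ⟨⟨n, hnS⟩, hnN, hnW⟩ := SetLike.exists_of_lt
      (Group.normalizerCondition_of_isNilpotent (G := (S : Subgroup G)) _ hlt)
    refine hnW (mem_subgroupOf.2 (hW ▸ ⟨hnS, ?_⟩))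
    show n ∈ normalizer (E : Set G)
    have hconj : n * r * n⁻¹ ∈ W :=
      mem_subgroupOf.1 ((mem_normalizer_iff.1 hnN ⟨r, hr.1⟩).1
        (mem_subgroupOf.2 (hW ▸ ⟨hr.1, le_normalizer hr.2⟩)))
    have hconj2 : n * r * n⁻¹ ∈ normalizer (E : Set G) := (hW ▸ hconj : n * r * n⁻¹ ∈ (S : Subgroup G) ⊓ normalizer (E : Set G)).2
    have hsq : n * (r * r) * n⁻¹ ∈ E := by
      rw [← conj_mul]
      have := (mul_mem_iff_of_index_two H.index_two (a := ⟨_, hconj2⟩) (b := ⟨_, hconj2⟩)).2 Iff.rfl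
      simpa [mem_subgroupOf] using this
    exact H.ti (mul_mem hr.2 hr.2) hr2 hsq
  · push Not at hbig
    -- the four group case
    have hR : Nat.card ((S : Subgroup G) ⊓ E : Subgroup G) = 2 := by
      have hset : ((S : Subgroup G) ⊓ E : Subgroup G) = zpowers i := by
        refine le_antisymm (fun x hx => ?_) (zpowers_le.2 ⟨hiS, hi⟩)
        rcases hu x hx.2 (hbig x hx) with rfl | rfl
        · exact one_mem _
        · exact mem_zpowers _
      rw [hset, Nat.card_zpowers, hio]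
    have hW4 : Nat.card W = 4 := by rw [hW, H.card_inf_normalizer ht htN htE, hR]
    have hS4 : Nat.card (S : Subgroup G) ≠ 4 := fun h4 => hSN (by
      have : W = (S : Subgroup G) :=
        eq_of_le_of_card_ge (hW ▸ inf_le_left) (by rw [hW4]; exact h4.le)
      exact this ▸ hW ▸ inf_le_right)
    have hC4 : Nat.card (centralizer ({(⟨i, hiS⟩ : (S : Subgroup G))} : Set (S : Subgroup G))) = 4 := by
      rw [← hW4, ← card_map_of_injective (f := (S : Subgroup G).subtype) Subtype.coe_injective]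
      congr 2
      ext x
      rw [hW, ← hCi, mem_inf, mem_map]
      constructor
      · rintro ⟨y, hy, rfl⟩
        exact ⟨y.2, mem_centralizer_singleton_iff.2 (congrArg Subtype.val (mem_centralizer_singleton_iff.1 hy))⟩
      · rintro ⟨hx, hxc⟩
        exact ⟨⟨x, hx⟩, mem_centralizer_singleton_iff.2 (Subtype.ext (mem_centralizer_singleton_iff.1 hxc)), rfl⟩
    obtain ⟨a, ha2, ha4, hia⟩ := Cfsg.Agent.S3224.exists_cyclic _ (S : Subgroup G) rfl S.2 ⟨i, hiS⟩
      (by rw [orderOf_mk, hio]) hC4 hS4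
    obtain ⟨Q, hQ⟩ : ∃ Q : Subgroup G, Q = (zpowers a).map (S : Subgroup G).subtype := ⟨_, rfl⟩
    have hQi : Q.relIndex (S : Subgroup G) = 2 := by
      rw [Subgroup.relIndex, hQ, Subgroup.subgroupOf, Subgroup.comap_map_eq_self_of_injective Subtype.coe_injective]
      exact ha2
    have hodd : Odd (S : Subgroup G).index :=
      Nat.not_even_iff_odd.1 fun h => Sylow.not_dvd_index S (even_iff_two_dvd.1 h)
    have hii : i * i = 1 := by rw [← sq, ← hio, pow_orderOf_eq_one]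
    rcases CfsgLib.ThompsonTransfer.thompson_transfer (S : Subgroup G) Q hodd hQi hii with
      ⟨M, hM, hM2, -⟩ | ⟨g, hg⟩
    · exact H.not_index_two M hM hM2
    rw [hQ] at hg
    obtain ⟨q, hq, hqe⟩ := hg
    -- `q` is central in `S`
    have hqo : orderOf q = 2 := by
      rw [← orderOf_coe, show ((q : (S : Subgroup G)) : G) = g * i * g⁻¹ from hqe]
      exact (orderOf_injective (MulAut.conj g).toMonoidHom (MulAut.conj g).injective i).trans hio
    haveI : (zpowers a).Normal := Subgroup.normal_of_index_eq_two ha2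
    have hqc : ∀ x : (S : Subgroup G), x * q * x⁻¹ = q := fun x => by
      have hm : x * q * x⁻¹ ∈ zpowers a := Subgroup.Normal.conj_mem inferInstance q hq x
      obtain ⟨l, hl⟩ := mem_zpowers_iff.1 (mem_zpowers_of_order (x := (⟨q, hq⟩ : zpowers a))
        (z := (⟨_, hm⟩ : zpowers a)) (by
          rw [← orderOf_coe (⟨_, hm⟩ : zpowers a), ← orderOf_coe (⟨q, hq⟩ : zpowers a)]
          exact orderOf_injective (MulAut.conj x).toMonoidHom (MulAut.conj x).injective q))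
      have hl' : q ^ l = x * q * x⁻¹ := congrArg Subtype.val hl
      have hqq : q * q = 1 := by
        have h := pow_orderOf_eq_one q
        rwa [hqo, sq] at h
      rcases Int.even_or_odd l with ⟨j, rfl⟩ | ⟨j, rfl⟩
      · rw [← two_mul, zpow_mul, zpow_two, hqq, one_zpow, eq_comm, conj_eq_one_iff] at hl'
        rw [hl', orderOf_one] at hqo; omega
      · rw [← hl', zpow_add_one, zpow_mul, zpow_two, hqq, one_zpow, one_mul]
    have hle : (S : Subgroup G).map (MulAut.conj g⁻¹).toMonoidHom ≤ normalizer (E : Set G) := by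
      rintro _ ⟨x, hx, rfl⟩
      rw [← hCi, mem_centralizer_singleton_iff]
      have hxq : x * (g * i * g⁻¹) * x⁻¹ = g * i * g⁻¹ := by
        have := congrArg Subtype.val (hqc ⟨x, hx⟩)
        rw [← hqe]; exact this
      show g⁻¹ * x * g⁻¹⁻¹ * i = i * (g⁻¹ * x * g⁻¹⁻¹)
      rw [mul_inv_eq_iff_eq_mul] at hxq
      calc g⁻¹ * x * g⁻¹⁻¹ * i = g⁻¹ * (x * (g * i * g⁻¹)) * g := by group
        _ = g⁻¹ * (g * i * g⁻¹ * x) * g := by rw [hxq]
        _ = i * (g⁻¹ * x * g⁻¹⁻¹) := by group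
    have h1 := hmax _ (S.2.map _) hle
    rw [card_map_of_injective (MulAut.conj g⁻¹).injective, ← hW] at h1
    exact hSN ((Subgroup.eq_of_le_of_card_ge (hW ▸ inf_le_left : W ≤ (S : Subgroup G)) h1) ▸
      hW ▸ inf_le_right)

/-- The even case: involutions are conjugate and an involution inverts `E`. -/
theorem even_data (he : 2 ∣ Nat.card E) :
    ∃ i ∈ E, orderOf i = 2 ∧ (∀ x ∈ E, x * x = 1 → x = 1 ∨ x = i) ∧
      (∀ x y : G, orderOf x = 2 → orderOf y = 2 → IsConj x y) ∧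
      ∃ s ∈ normalizer (E : Set G), s ∉ E ∧ orderOf s = 2 ∧ ∀ x ∈ E, s * x * s⁻¹ = x⁻¹ := by
  haveI : Fact (Nat.Prime 2) := ⟨Nat.prime_two⟩
  haveI := H.isCyclic_E
  obtain ⟨i, hi, hio, hu⟩ := H.exists_invol he
  obtain ⟨S, hS2, ⟨t, ht, htN, htE⟩, hmax⟩ := H.exists_two_sylow
  have hSN := H.sylow_le hi hio hu hS2 ht htN htE hmax
  have hiS : i ∈ (S : Subgroup G) := hS2 i hi ⟨1, by rw [pow_one, ← hio, pow_orderOf_eq_one]⟩
  have hodd : Odd (S : Subgroup G).index :=
    Nat.not_even_iff_odd.1 fun h => Sylow.not_dvd_index S (even_iff_two_dvd.1 h)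
  obtain ⟨R, hR⟩ : ∃ R, R = (S : Subgroup G) ⊓ E := ⟨_, rfl⟩
  have hRS : R ≤ (S : Subgroup G) := hR ▸ inf_le_left
  have hRE : R ≤ E := hR ▸ inf_le_right
  have hRi : R.relIndex (S : Subgroup G) = 2 := by
    have h1 := H.card_inf_normalizer ht htN htE
    rw [inf_eq_left.2 hSN, ← hR] at h1
    have h2 := card_mul_index (R.subgroupOf (S : Subgroup G))
    rw [Nat.card_congr (subgroupOfEquivOfLe hRS).toEquiv] at h2
    have h3 : 0 < Nat.card R := Nat.card_pos
    rw [Subgroup.relIndex]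
    exact Nat.eq_of_mul_eq_mul_left h3 (by rw [h2, h1, mul_comm])
  refine ⟨i, hi, hio, hu, ?_, ?_⟩
  · have hto : ∀ x : G, orderOf x = 2 → IsConj x i := fun x hx => by
      have hxx : x * x = 1 := by rw [← sq, ← hx, pow_orderOf_eq_one]
      rcases CfsgLib.ThompsonTransfer.thompson_transfer (S : Subgroup G) R hodd hRi hxx with
        ⟨M, hM, hM2, -⟩ | ⟨g, hg⟩
      · exact absurd hM2 (H.not_index_two M hM)
      refine isConj_iff.2 ⟨g, (hu _ (hRE hg) ?_).resolve_left fun h => ?_⟩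
      · rw [conj_mul, hxx, mul_one, mul_inv_cancel]
      · rw [conj_eq_one_iff.1 h, orderOf_one] at hx; omega
    exact fun x y hx hy => (hto x hx).trans (hto y hy).symm
  -- a generator of `R`
  haveI : IsCyclic R := isCyclic_of_injective (inclusion hRE) (inclusion_injective hRE)
  obtain ⟨⟨r, hrR⟩, hgen⟩ := IsCyclic.exists_generator (α := R)
  have hgen' : ∀ a ∈ R, ∃ k : ℤ, r ^ k = a := fun a ha => by
    obtain ⟨k, hk⟩ := mem_zpowers_iff.1 (hgen ⟨a, ha⟩)
    exact ⟨k, congrArg Subtype.val hk⟩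
  have hrS := hRS hrR
  have hrE := hRE hrR
  have hr1 : r ≠ 1 := fun h => by
    obtain ⟨k, hk⟩ := hgen' i (hR ▸ ⟨hiS, hi⟩)
    rw [h, one_zpow] at hk
    rw [← hk, orderOf_one] at hio; omega
  obtain ⟨k, hk⟩ : ∃ k, orderOf r = 2 ^ k := by
    obtain ⟨k, hk⟩ := S.2 ⟨r, hrS⟩
    obtain ⟨j, -, hj⟩ := (Nat.dvd_prime_pow Nat.prime_two).1
      (orderOf_dvd_of_pow_eq_one (show r ^ 2 ^ k = 1 from congrArg Subtype.val hk))
    exact ⟨j, hj⟩
  have hk0 : k ≠ 0 := fun h => hr1 (orderOf_eq_one_iff.1 (by rw [hk, h, pow_zero]))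
  have hr2 : r ∉ zpowers (r * r) := fun h => by
    obtain ⟨m, hm⟩ := mem_zpowers_iff.1 h
    have h1 : r ^ (2 * m - 1) = 1 := by
      rw [zpow_sub, zpow_mul, zpow_two, zpow_one, hm, mul_inv_cancel]
    have h2 : ((orderOf r : ℕ) : ℤ) ∣ 2 * m - 1 := orderOf_dvd_iff_zpow_eq_one.2 h1
    have h3 : (2 : ℤ) ∣ ((orderOf r : ℕ) : ℤ) := by
      rw [hk, Nat.cast_pow]; exact dvd_pow_self 2 hk0
    have := h3.trans h2
    omega
  have hcomm : ∀ a ∈ R, ∀ x ∈ (S : Subgroup G), x * a * x⁻¹ * a⁻¹ ∈ zpowers (r * r) := by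
    intro a ha x hx
    have hxr : x * r * x⁻¹ ∈ R :=
      hR ▸ ⟨(S : Subgroup G).mul_mem ((S : Subgroup G).mul_mem hx hrS) ((S : Subgroup G).inv_mem hx), (mem_normalizer_iff.1 (hSN hx) r).1 hrE⟩
    obtain ⟨u, hu'⟩ := hgen' _ hxr
    obtain ⟨m, rfl⟩ := hgen' a ha
    have huo : u % 2 = 1 := by
      by_contra hne
      obtain ⟨v, rfl⟩ : (2 : ℤ) ∣ u := by omega
      have hmem : x * r * x⁻¹ ∈ zpowers (r * r) :=
        mem_zpowers_iff.2 ⟨v, by rw [← zpow_two, ← zpow_mul, hu']⟩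
      have h1 : orderOf (x * r * x⁻¹) ∣ orderOf (r * r) := orderOf_dvd_of_mem_zpowers hmem
      rw [show orderOf (x * r * x⁻¹) = orderOf r from
        orderOf_injective (MulAut.conj x).toMonoidHom (MulAut.conj x).injective r, ← sq,
        orderOf_pow r, hk, Nat.gcd_eq_right (dvd_pow_self 2 hk0)] at h1
      have := Nat.le_of_dvd (Nat.div_pos (Nat.le_self_pow hk0 2) two_pos) h1
      have h5 : 0 < 2 ^ k := pow_pos two_pos k
      omega
    rw [← conj_zpow, ← hu', ← zpow_mul, ← zpow_neg, ← zpow_add]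
    obtain ⟨w, hw⟩ : (2 : ℤ) ∣ u * m + -m := by
      rw [show u * m + -m = (u - 1) * m by ring]
      exact dvd_mul_of_dvd_left (by omega) m
    exact mem_zpowers_iff.2 ⟨w, by rw [hw, zpow_mul, zpow_two]⟩
  -- suppose no involution of `S` outside `E` inverts `r`
  by_cases hex : ∃ s ∈ (S : Subgroup G), s ∉ E ∧ s * s = 1 ∧ s * r * s⁻¹ = r⁻¹
  · obtain ⟨s, hsS, hsE, hss, hsr⟩ := hex
    have hsN := hSN hsS
    have hs2 : orderOf s = 2 := orderOf_eq_prime (by rw [sq, hss]) fun h => hsE (h ▸ one_mem _)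
    refine ⟨s, hsN, hsE, hs2, fun x hx => ?_⟩
    obtain ⟨a, m, hm, hxo⟩ := Nat.exists_eq_two_pow_mul_odd (orderOf_pos x).ne'
    have hA : ∀ z ∈ E, ∀ c : ℤ, s * z * s⁻¹ = z⁻¹ → s * z ^ c * s⁻¹ = (z ^ c)⁻¹ :=
      fun z _ c h => by rw [← conj_zpow, h, inv_zpow]
    have h1 : s * x ^ (2 ^ a) * s⁻¹ = (x ^ (2 ^ a))⁻¹ := by
      refine H.inv_of_odd hsN hsE (pow_mem hx _) ?_
      rw [orderOf_pow, hxo, Nat.gcd_eq_right (dvd_mul_right _ _),
        Nat.mul_div_cancel_left _ (pow_pos two_pos a)]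
      exact hm
    have h2 : s * x ^ m * s⁻¹ = (x ^ m)⁻¹ := by
      have hxm : x ^ m ∈ R := hR ▸ ⟨hS2 _ (pow_mem hx m) ⟨a, by
        rw [← pow_mul, mul_comm, ← hxo, pow_orderOf_eq_one]⟩, pow_mem hx m⟩
      obtain ⟨c, hc⟩ := hgen' _ hxm
      rw [← hc]; exact hA r hrE c hsr
    have hcop : Nat.Coprime (2 ^ a) m := Nat.Coprime.pow_left _ (Nat.coprime_two_left.2 hm)
    obtain ⟨c, d, hcd⟩ : ∃ c d : ℤ, ((2 ^ a : ℕ) : ℤ) * c + (m : ℤ) * d = 1 :=
      ⟨_, _, by rw [← Nat.gcd_eq_gcd_ab, hcop.gcd_eq_one, Nat.cast_one]⟩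
    have hx' : x = (x ^ (2 ^ a)) ^ c * (x ^ m) ^ d := by
      rw [← zpow_natCast, ← zpow_natCast x m, ← zpow_mul, ← zpow_mul, ← zpow_add, hcd, zpow_one]
    conv_lhs => rw [hx', ← conj_mul, hA _ (pow_mem hx _) c h1, hA _ (pow_mem hx _) d h2,
      ← mul_inv_rev]
    conv_rhs => rw [hx']
    rw [H.E_comm (zpow_mem (pow_mem hx _) _) (zpow_mem (pow_mem hx _) _)]
  exfalso
  push Not at hex
  -- the focal transfer
  obtain ⟨K, hKS, hrK, hsqK, hinvK⟩ : ∃ K : Subgroup G, K ≤ (S : Subgroup G) ∧ r ∉ K ∧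
      zpowers (r * r) ≤ K ∧ ∀ j ∈ (S : Subgroup G), j ∉ E → j * j = 1 → j ∈ K := by
    by_cases hs : ∃ s ∈ (S : Subgroup G), s ∉ E ∧ s * s = 1
    · obtain ⟨s, hsS, hsE, hss⟩ := hs
      have hnr := hex s hsS hsE hss
      have hsN : zpowers s ≤ normalizer ((zpowers (r * r) : Subgroup G) : Set G) := by
        rw [zpowers_le]
        have hcl : ∀ y ∈ zpowers (r * r), s * y * s⁻¹ ∈ zpowers (r * r) := fun y hy => by
          obtain ⟨m, rfl⟩ := mem_zpowers_iff.1 hy
          rw [← conj_zpow]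
          refine zpow_mem ?_ m
          have h1 := hcomm (r * r) (mul_mem hrR hrR) s hsS
          have h2 := mul_mem h1 (mem_zpowers (r * r))
          rwa [inv_mul_cancel_right] at h2
        refine mem_normalizer_iff.2 fun y => ⟨hcl y, fun h => ?_⟩
        have := hcl _ h
        rwa [show s * (s * y * s⁻¹) * s⁻¹ = (s * s) * y * (s * s)⁻¹ by group, hss, one_mul,
          inv_one, mul_one] at this
      refine ⟨zpowers (r * r) ⊔ zpowers s, sup_le (zpowers_le.2 (mul_mem hrS hrS)) (zpowers_le.2 hsS),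
        fun h => ?_, le_sup_left, fun j hjS hjE hjj => ?_⟩
      · have h' : r ∈ (↑(zpowers (r * r) ⊔ zpowers s) : Set G) := h
        rw [coe_mul_of_right_le_normalizer_left _ _ hsN] at h'
        obtain ⟨a, ha, b, hb, hab⟩ := h'
        have haE : a ∈ E := zpowers_le.2 (mul_mem hrE hrE) ha
        obtain ⟨m, rfl⟩ := mem_zpowers_iff.1 hb
        have hab' : a * s ^ m = r := hab
        rcases Int.even_or_odd m with ⟨l, rfl⟩ | ⟨l, rfl⟩
        · rw [← two_mul, zpow_mul, zpow_two, hss, one_zpow, mul_one] at hab'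
          exact hr2 (hab' ▸ ha)
        · rw [zpow_add_one, zpow_mul, zpow_two, hss, one_zpow, one_mul] at hab'
          exact hsE ((E.mul_mem_cancel_left haE).1 (hab' ▸ hrE))
      · have hjs : j * s ∈ E := by
          have := (mul_mem_iff_of_index_two H.index_two (a := ⟨j, hSN hjS⟩) (b := ⟨s, hSN hsS⟩)).2
            (iff_of_false (by simpa [mem_subgroupOf] using hjE) (by simpa [mem_subgroupOf] using hsE))
          simpa [mem_subgroupOf] using this
        obtain ⟨c, hc⟩ := hgen' _ (hR ▸ ⟨mul_mem hjS hsS, hjs⟩ : j * s ∈ R)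
        have hje : j = r ^ c * s := by rw [hc, mul_assoc, hss, mul_one]
        rcases Int.even_or_odd c with ⟨l, rfl⟩ | ⟨l, rfl⟩
        · rw [hje]
          exact mul_mem (mem_sup_left (mem_zpowers_iff.2 ⟨l, by rw [← zpow_two, ← zpow_mul, two_mul]⟩))
            (mem_sup_right (mem_zpowers s))
        · exfalso
          have hsi : s⁻¹ = s := inv_eq_of_mul_eq_one_right hss
          have h1 : s * r ^ (2 * l + 1) * s⁻¹ = (r ^ (2 * l + 1))⁻¹ := by
            refine eq_inv_of_mul_eq_one_right ?_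
            calc r ^ (2 * l + 1) * (s * r ^ (2 * l + 1) * s⁻¹)
                = (r ^ (2 * l + 1) * s) * (r ^ (2 * l + 1) * s) := by rw [hsi]; group
              _ = 1 := by rw [← hje, hjj]
          obtain ⟨v, hv⟩ : ∃ v : ℤ, ((2 * l + 1) * v) ≡ 1 [ZMOD (orderOf r : ℤ)] := by
            have hcop : IsCoprime (2 * l + 1) ((orderOf r : ℕ) : ℤ) := by
              rw [hk, Nat.cast_pow]
              exact (IsCoprime.pow_right ⟨1, -l, by push_cast; ring⟩)
            obtain ⟨a, b, hab⟩ := hcop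
            exact ⟨a, Int.modEq_iff_dvd.2 ⟨b, by linear_combination -hab⟩⟩
          have hr' : (r ^ (2 * l + 1)) ^ v = r := by
            rw [← zpow_mul]
            exact (zpow_eq_zpow_iff_modEq.2 hv).trans (zpow_one r)
          refine hnr ?_
          rw [← hr', ← conj_zpow, h1, inv_zpow]
    · push Not at hs
      exact ⟨zpowers (r * r), zpowers_le.2 (mul_mem hrS hrS), hr2, le_rfl,
        fun j hj hjE hjj => absurd hjj (hs j hj hjE)⟩
  have hab : ∀ x ∈ (S : Subgroup G), ∀ y ∈ (S : Subgroup G), x * y * x⁻¹ * y⁻¹ ∈ zpowers (r * r) := by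
    have hsplit : ∀ x ∈ (S : Subgroup G), ∃ a ∈ R, ∃ c, (c = 1 ∨ c = t) ∧ x = a * c := fun x hx => by
      rcases H.cases htN htE (hSN hx) with h | h
      · exact ⟨x, hR ▸ ⟨hx, h⟩, 1, Or.inl rfl, (mul_one x).symm⟩
      · exact ⟨x * t⁻¹, hR ▸ ⟨(S : Subgroup G).mul_mem hx ((S : Subgroup G).inv_mem ht), h⟩, t, Or.inr rfl, (inv_mul_cancel_right x t).symm⟩
    intro x hx y hy
    obtain ⟨a, ha, c, hc, rfl⟩ := hsplit x hx
    obtain ⟨b, hb, d, hd, rfl⟩ := hsplit y hy
    have hcS : c ∈ (S : Subgroup G) := by rcases hc with rfl | rfl <;> [exact one_mem _; exact ht]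
    have hdS : d ∈ (S : Subgroup G) := by rcases hd with rfl | rfl <;> [exact one_mem _; exact ht]
    have hcd : c * d = d * c := by rcases hc with rfl | rfl <;> rcases hd with rfl | rfl <;> group
    have hb' : c * b * c⁻¹ ∈ E := (mem_normalizer_iff.1 (hSN hcS) b).1 (hRE hb)
    have ha' : d * a⁻¹ * d⁻¹ ∈ E := (mem_normalizer_iff.1 (hSN hdS) a⁻¹).1 (inv_mem (hRE ha))
    have e1 : a * c * (b * d) * (a * c)⁻¹ * (b * d)⁻¹ =
        (c * b * c⁻¹ * b⁻¹) * (d * a * d⁻¹ * a⁻¹)⁻¹ := by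
      calc a * c * (b * d) * (a * c)⁻¹ * (b * d)⁻¹
          = a * (c * b * c⁻¹) * (c * d * c⁻¹ * d⁻¹) * (d * a⁻¹ * d⁻¹) * b⁻¹ := by group
        _ = a * ((c * b * c⁻¹) * (d * a⁻¹ * d⁻¹) * b⁻¹) := by rw [hcd]; group
        _ = ((c * b * c⁻¹) * (d * a⁻¹ * d⁻¹) * b⁻¹) * a :=
            H.E_comm (hRE ha) (mul_mem (mul_mem hb' ha') (inv_mem (hRE hb)))
        _ = (c * b * c⁻¹) * ((d * a⁻¹ * d⁻¹) * b⁻¹) * a := by group
        _ = (c * b * c⁻¹) * (b⁻¹ * (d * a⁻¹ * d⁻¹)) * a := by rw [H.E_comm ha' (inv_mem (hRE hb))]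
        _ = (c * b * c⁻¹ * b⁻¹) * ((d * a⁻¹ * d⁻¹) * a) := by group
        _ = (c * b * c⁻¹ * b⁻¹) * (a * (d * a⁻¹ * d⁻¹)) := by rw [H.E_comm ha' (hRE ha)]
        _ = _ := by group
    rw [e1]
    exact mul_mem (hcomm b hb c hcS) (inv_mem (hcomm a ha d hdS))
  have hKn : (K.subgroupOf (S : Subgroup G)).Normal := ⟨fun k hk x => by
    rw [mem_subgroupOf] at hk ⊢
    have h2 := mul_mem (hsqK (hab x x.2 k k.2)) hk
    rwa [inv_mul_cancel_right] at h2⟩
  refine CfsgLib.FocalTransfer.not_mem_commutator (p := 2) (S : Subgroup G) K hKn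
    (fun x hx y hy => hsqK (hab x hx y hy)) ((Nat.prime_two.coprime_iff_not_dvd).2 (Sylow.not_dvd_index S))
    hrS hrK ⟨k, hk⟩ (fun m a ha => ?_) (H.perfect ▸ mem_top r)
  -- fusion of the powers of `r`
  have hx : r ^ m ∈ R := zpow_mem hrR m
  by_cases hx1 : r ^ m = 1
  · rw [hx1]; simp
  by_cases haE : a * r ^ m * a⁻¹ ∈ E
  · have haN := H.ti (hRE hx) hx1 haE
    rcases H.cases htN htE haN with h | h
    · rw [H.E_comm h (hRE hx), mul_inv_cancel_right, mul_inv_cancel]; exact one_mem _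
    · have e2 : a * r ^ m * a⁻¹ = t * r ^ m * t⁻¹ := by
        have hm' := (mem_normalizer_iff.1 htN (r ^ m)).1 (hRE hx)
        calc a * r ^ m * a⁻¹ = (a * t⁻¹) * (t * r ^ m * t⁻¹) * (a * t⁻¹)⁻¹ := by group
          _ = _ := by rw [H.E_comm h hm', mul_inv_cancel_right]
      rw [e2]; exact hsqK (hcomm _ hx t ht)
  · -- the conjugate is outside `E`, so `r ^ m` is the involution
    have hN := hSN ha
    have hsq : a * (r ^ m * r ^ m) * a⁻¹ ∈ E := by
      rw [← conj_mul]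
      have := (mul_mem_iff_of_index_two H.index_two (a := ⟨_, hN⟩) (b := ⟨_, hN⟩)).2 Iff.rfl
      simpa [mem_subgroupOf] using this
    have hxx : r ^ m * r ^ m = 1 := by
      by_contra hne
      have haN := H.ti (mul_mem (hRE hx) (hRE hx)) hne hsq
      exact haE ((mem_normalizer_iff.1 haN _).1 (hRE hx))
    have hjj : (a * r ^ m * a⁻¹) * (a * r ^ m * a⁻¹) = 1 := by
      rw [conj_mul, hxx, mul_one, mul_inv_cancel]
    refine mul_mem (hinvK _ ha haE hjj) (inv_mem ?_)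
    by_cases hr2' : r * r = 1
    · exfalso
      have hxr : r ^ m = r := by
        rcases Int.even_or_odd m with ⟨l, rfl⟩ | ⟨l, rfl⟩
        · exact absurd (by rw [← two_mul, zpow_mul, zpow_two, hr2', one_zpow]) hx1
        · rw [zpow_add_one, zpow_mul, zpow_two, hr2', one_zpow, one_mul]
      have hjr := hex _ ha haE hjj
      refine hjr ?_
      rw [inv_eq_of_mul_eq_one_right hr2']
      have hri : r = i := (hu r hrE hr2').resolve_left hr1
      have hc : a * r ^ m * a⁻¹ ∈ centralizer ({i} : Set G) := H.centralizer_invol hi hio hu ▸ hN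
      have hc' := mem_centralizer_singleton_iff.1 hc
      rw [hri] at hc' ⊢
      rw [hc', mul_inv_cancel_right]
    · rcases Int.even_or_odd m with ⟨l, rfl⟩ | ⟨l, rfl⟩
      · exact hsqK (mem_zpowers_iff.2 ⟨l, by rw [← zpow_two, ← zpow_mul, two_mul]⟩)
      · exfalso
        have h1 : r ^ ((2 * l + 1) + (2 * l + 1)) = 1 := by rw [zpow_add]; exact hxx
        have h2 : ((orderOf r : ℕ) : ℤ) ∣ 2 * (2 * l + 1) := by
          have := orderOf_dvd_iff_zpow_eq_one.2 h1
          rwa [two_mul]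
        rcases Nat.lt_or_ge k 2 with hk2 | hk2
        · apply hr2'
          rw [← sq, ← orderOf_dvd_iff_pow_eq_one, hk, show k = 1 by omega, pow_one]
        · have h4 : ((4 : ℕ) : ℤ) ∣ ((orderOf r : ℕ) : ℤ) :=
            Int.natCast_dvd_natCast.2 (hk ▸ (pow_dvd_pow 2 hk2 : 2 ^ 2 ∣ 2 ^ k))
          have := h4.trans h2
          push_cast at this
          omega

end Hyp

end CfsgLib.PrimeDegTI
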